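import Cfsg.Agent.Lib.RealDegree.Basic

/-!
# Groups whose real irreducible characters have degree prime to `p`

If moreover the subgroup generated by the `p`-elements is solvable, then a normal subgroup having
`p`-power index over the subgroup generated by the `2`-elements has a normal Sylow `p`-subgroup.
-/

set_option autoImplicit false
set_option linter.unusedSectionVars false
set_option linter.style.haveILetI false

namespace CfsgLib.RealDegree

open Cfsg CfsgLib.Char
open scoped ComplexConjugate CfsgLib.Char Pointwise commutatorElement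

variable {G : Type*} [Group G]

theorem relIndex_dvd_index' [Finite G] (S L : Subgroup G) [L.Normal] :
    S.relIndex L ∣ S.index := by
  obtain ⟨c, hc⟩ := Subgroup.relIndex_dvd_index_of_normal L S
  have h1 : S.relIndex L * L.index = L.relIndex S * S.index := by
    rw [← Subgroup.inf_relIndex_right S L, Subgroup.relIndex_mul_index inf_le_right, inf_comm,
      ← Subgroup.inf_relIndex_right L S, Subgroup.relIndex_mul_index inf_le_right]
  rw [hc, mul_left_comm] at h1
  have h2 : L.relIndex S ≠ 0 := Subgroup.index_ne_zero_of_finite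
  exact ⟨c, (Nat.eq_of_mul_eq_mul_left (Nat.pos_of_ne_zero h2) h1).symm⟩

theorem elemGen_normal (q : ℕ) (G : Type*) [Group G] : (elemGen q G).Normal := by
  refine ⟨fun x hx g => ?_⟩
  induction hx using Subgroup.closure_induction with
  | mem x hx =>
    obtain ⟨k, hk⟩ := hx
    refine Subgroup.subset_closure ⟨k, ?_⟩
    show orderOf ((MulAut.conj g) x) = _
    rw [MulEquiv.orderOf_eq, hk]
  | one => simp
  | mul a b _ _ ha hb =>
    rw [show g * (a * b) * g⁻¹ = (g * a * g⁻¹) * (g * b * g⁻¹) by group]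
    exact mul_mem ha hb
  | inv a _ ha =>
    rw [show g * a⁻¹ * g⁻¹ = (g * a * g⁻¹)⁻¹ by group]
    exact inv_mem ha

theorem mem_elemGen_of_isPGroup (q : ℕ) [Fact q.Prime] {Q : Subgroup G} (hQ : IsPGroup q Q) :
    Q ≤ elemGen q G := fun x hx => by
  obtain ⟨k, hk⟩ := IsPGroup.iff_orderOf.mp hQ ⟨x, hx⟩
  exact Subgroup.subset_closure ⟨k, by rw [← hk, Subgroup.orderOf_mk]⟩

theorem map_elemGen [Finite G] {H : Type*} [Group H] (q : ℕ) [Fact q.Prime] (f : G →* H)
    (hf : Function.Surjective f) : (elemGen q G).map f = elemGen q H := by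
  have hq : q.Prime := Fact.out
  refine le_antisymm ?_ ((Subgroup.closure_le _).mpr ?_)
  · rw [elemGen, MonoidHom.map_closure, Subgroup.closure_le]
    rintro _ ⟨x, ⟨k, hk⟩, rfl⟩
    obtain ⟨j, -, hj⟩ := (Nat.dvd_prime_pow hq).mp (hk ▸ orderOf_map_dvd f x)
    exact Subgroup.subset_closure ⟨j, hj⟩
  · rintro y ⟨k, hk⟩
    obtain ⟨x, rfl⟩ := hf y
    obtain ⟨a, r, hr, hxr⟩ :=
      Nat.exists_eq_pow_mul_and_not_dvd (orderOf_pos x).ne' q hq.one_lt.ne'
    have hr0 : r ≠ 0 := by rintro rfl; exact hr (dvd_zero q)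
    have h1 : x ^ r ∈ elemGen q G := Subgroup.subset_closure ⟨a, by
      rw [orderOf_pow' x hr0, hxr, Nat.gcd_eq_right (Dvd.intro_left _ rfl),
        Nat.mul_div_cancel _ (Nat.pos_of_ne_zero hr0)]⟩
    obtain ⟨j, hj⟩ := exists_pow_eq_self_of_coprime
      (show Nat.Coprime r (orderOf (f x)) by
        rw [hk]
        exact ((hq.coprime_iff_not_dvd.mpr hr).pow_left k).symm)
    refine ⟨(x ^ r) ^ j, pow_mem h1 j, ?_⟩
    rw [map_pow, map_pow, hj]

theorem isSolvable_elemGen_quotient [Finite G] (q : ℕ) [Fact q.Prime] (N : Subgroup G) [N.Normal]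
    (h : Group.IsSolvable ↥(elemGen q G)) : Group.IsSolvable ↥(elemGen q (G ⧸ N)) := by
  rw [← map_elemGen q (QuotientGroup.mk' N) (QuotientGroup.mk'_surjective N)]
  exact solvable_of_surjective ((QuotientGroup.mk' N).subgroupMap_surjective (elemGen q G))

theorem realPrime_quotient {p : ℕ} (N : Subgroup G) [N.Normal] (h : RealPrime p G) :
    RealPrime p (G ⧸ N) := by
  intro χ hr hd
  refine h ⟨fun g => (χ : G ⧸ N → ℂ) (g : G ⧸ N),
    CfsgLib.Blocks.isIrrCharacter_comp_of_surjective χ.2 (QuotientGroup.mk' N)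
      (QuotientGroup.mk'_surjective N)⟩ (fun g => hr _) ?_
  unfold charDegree at hd ⊢
  simpa using hd

/-- A `p`-subgroup of `p'`-index is the Sylow subgroup, if normal. -/
theorem sylow_normal_of_normal {p : ℕ} [Fact p.Prime] [Finite G] {U R : Subgroup G} [R.Normal]
    (hRU : R ≤ U) (hR : IsPGroup p R) (hidx : ¬ p ∣ R.relIndex U) (Q : Sylow p U) :
    (Q : Subgroup U).Normal := by
  have h1 : IsPGroup p (R.subgroupOf U) :=
    hR.of_equiv (Subgroup.subgroupOfEquivOfLe hRU).symm
  let Q' : Sylow p U := h1.toSylow hidx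
  haveI : (Q' : Subgroup U).Normal := show (R.subgroupOf U).Normal from inferInstance
  haveI := Sylow.unique_of_normal Q' inferInstance
  rw [Subsingleton.elim Q Q']
  infer_instance

/-- In a solvable minimal normal subgroup all elements commute and have prime exponent. -/
theorem minimal_solvable [Finite G] {N : Subgroup G} [N.Normal] (hN : N ≠ ⊥)
    (hmin : ∀ M : Subgroup G, M.Normal → M ≤ N → M = ⊥ ∨ M = N) (hs : Group.IsSolvable N) :
    (∀ a ∈ N, ∀ b ∈ N, Commute a b) ∧ ∃ r : ℕ, r.Prime ∧ ∀ a ∈ N, a ^ r = 1 := by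
  haveI : Nontrivial N := (Subgroup.nontrivial_iff_ne_bot N).mpr hN
  have hc : ⁅N, N⁆ = ⊥ := by
    refine (hmin ⁅N, N⁆ inferInstance (Subgroup.commutator_le_right N N)).resolve_right fun h => ?_
    have h1 : commutator N = ⊤ := by
      apply Subgroup.map_injective N.subtype_injective
      rw [commutator_def, Subgroup.map_commutator, ← MonoidHom.range_eq_map,
        Subgroup.range_subtype, h]
    exact (IsSolvable.commutator_lt_top_of_nontrivial N).ne h1
  have hcomm : ∀ a ∈ N, ∀ b ∈ N, Commute a b := fun a ha b hb => by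
    have := Subgroup.commutator_mem_commutator ha hb
    rw [hc, Subgroup.mem_bot, commutatorElement_eq_one_iff_mul_comm] at this
    exact this
  refine ⟨hcomm, ?_⟩
  obtain ⟨r, hr, hrd⟩ := Nat.exists_prime_and_dvd (Finite.one_lt_card (α := N)).ne'
  haveI := Fact.mk hr
  let O : Subgroup G :=
    { carrier := {a | a ∈ N ∧ a ^ r = 1}
      one_mem' := ⟨N.one_mem, one_pow r⟩
      mul_mem' := fun {a b} ha hb => ⟨N.mul_mem ha.1 hb.1, by
        rw [(hcomm a ha.1 b hb.1).mul_pow, ha.2, hb.2, one_mul]⟩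
      inv_mem' := fun {a} ha => ⟨N.inv_mem ha.1, by rw [inv_pow, ha.2, inv_one]⟩ }
  have hOn : O.Normal := ⟨fun a ha g => ⟨(inferInstance : N.Normal).conj_mem a ha.1 g, by
    rw [conj_pow, ha.2, mul_one, mul_inv_cancel]⟩⟩
  obtain ⟨x, hx⟩ := exists_prime_orderOf_dvd_card' (G := N) r hrd
  have hxO : (x : G) ∈ O := ⟨x.2, by
    rw [← Subgroup.coe_pow, ← hx, pow_orderOf_eq_one, Subgroup.coe_one]⟩
  have hO : O = N := (hmin O hOn fun a ha => ha.1).resolve_left fun h => by
    rw [h, Subgroup.mem_bot, OneMemClass.coe_eq_one] at hxO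
    rw [hxO, orderOf_one] at hx
    exact hr.one_lt.ne' hx.symm
  exact ⟨r, hr, fun a ha => (hO.ge ha).2⟩

/-- A normal subgroup having `p`-power index over the subgroup generated by the `2`-elements has a
normal Sylow `p`-subgroup. -/
theorem exists_normal_sylow.{u} (p : ℕ) [Fact p.Prime] (n : ℕ) :
    ∀ {G : Type u} [Group G] [Finite G], Nat.card G ≤ n → Group.IsSolvable ↥(elemGen p G) →
      RealPrime p G → ∀ U : Subgroup G, U.Normal → elemGen 2 G ≤ U →
      (∃ a : ℕ, (elemGen 2 G).relIndex U = p ^ a) →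
      ∃ R : Subgroup G, R.Normal ∧ R ≤ U ∧ IsPGroup p R ∧ ¬ p ∣ R.relIndex U := by
  classical
  induction n with
  | zero => intro G _ _ hn; exact absurd hn Nat.card_pos.not_ge
  | succ n ih =>
  intro G _ _ hn hsolv hreal U hU hKU hUp
  haveI : Fintype G := Fintype.ofFinite G
  haveI : Fact (Nat.Prime 2) := ⟨Nat.prime_two⟩
  have hp : p.Prime := Fact.out
  obtain ⟨a, ha⟩ := hUp
  haveI := hU
  haveI := elemGen_normal p G
  haveI := elemGen_normal 2 G
  by_cases hK : elemGen 2 G = ⊥
  · refine ⟨U, hU, le_rfl, IsPGroup.of_card (n := a) ?_, by simp [hp.ne_one]⟩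
    rw [← ha, hK, Subgroup.relIndex_bot_left]
  obtain ⟨N, ⟨hNn, hNK, hN⟩, hNmin⟩ := Set.Finite.exists_minimalFor id
    {M : Subgroup G | M.Normal ∧ M ≤ elemGen 2 G ∧ M ≠ ⊥} (Set.toFinite _)
    ⟨_, elemGen_normal 2 G, le_rfl, hK⟩
  replace hNmin : ∀ M : Subgroup G, M.Normal → M ≤ N → M = ⊥ ∨ M = N := fun M hM hMN =>
    or_iff_not_imp_left.mpr fun h =>
      le_antisymm hMN (hNmin (j := M) ⟨hM, hMN.trans hNK, h⟩ hMN)
  haveI := hNn
  -- the quotient by `N`
  set π := QuotientGroup.mk' N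
  have hπ := QuotientGroup.mk'_surjective N
  have hNU : N ≤ U := hNK.trans hKU
  obtain ⟨R', hR'n, hR'U, hR'p, hR'i⟩ := ih (G := G ⧸ N) (by
      have h1 : 1 < Nat.card N := by
        haveI : Nontrivial N := (Subgroup.nontrivial_iff_ne_bot N).mpr hN
        exact Finite.one_lt_card
      have h2 := N.card_mul_index
      rw [Subgroup.index] at h2
      have h3 : 0 < Nat.card (G ⧸ N) := Nat.card_pos
      nlinarith)
    (isSolvable_elemGen_quotient p N hsolv) (realPrime_quotient N hreal) (U.map π)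
    (hU.map π hπ) (by rw [← map_elemGen 2 π hπ]; exact Subgroup.map_mono hKU)
    ⟨a, by rw [← map_elemGen 2 π hπ, Subgroup.relIndex_map_map, QuotientGroup.ker_mk',
      sup_eq_left.mpr hNK, sup_eq_left.mpr hNU, ha]⟩
  set R := R'.comap π with hRdef
  haveI : R.Normal := hR'n.comap π
  have hNR : N ≤ R := fun x hx => by
    show π x ∈ R'
    rw [show π x = 1 from (QuotientGroup.eq_one_iff x).mpr hx]; exact one_mem R'
  have hRU : R ≤ U := by
    refine (Subgroup.comap_mono hR'U).trans ?_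
    rw [Subgroup.comap_map_eq, QuotientGroup.ker_mk', sup_eq_left.mpr hNU]
  have hRi : ¬ p ∣ R.relIndex U := by rwa [hRdef, Subgroup.relIndex_comap]
  obtain ⟨b, hb⟩ := IsPGroup.iff_card.mp hR'p
  have hNRi : N.relIndex R = p ^ b := by
    have h1 := Subgroup.relIndex_map_map π N R
    rw [QuotientGroup.ker_mk', sup_idem, sup_eq_left.mpr hNR, QuotientGroup.map_mk'_self,
      Subgroup.relIndex_bot_left, hRdef, Subgroup.map_comap_eq_self_of_surjective hπ, hb] at h1
    exact h1.symm
  by_cases hNp : IsPGroup p N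
  · obtain ⟨c, hc⟩ := IsPGroup.iff_card.mp hNp
    refine ⟨R, inferInstance, hRU, IsPGroup.of_card (n := c + b) ?_, hRi⟩
    have h1 := (N.subgroupOf R).card_mul_index
    rw [Nat.card_congr (Subgroup.subgroupOfEquivOfLe hNR).toEquiv, hc] at h1
    rw [← h1, show (N.subgroupOf R).index = p ^ b from hNRi, pow_add]
  -- the Sylow subgroup of `R`
  obtain ⟨Q0⟩ : Nonempty (Sylow p R) := inferInstance
  set Q : Subgroup G := (Q0 : Subgroup R).map R.subtype with hQdef
  set H := Subgroup.normalizer (Q : Set G) with hHdef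
  have hFr : H ⊔ R = ⊤ := Q0.normalizer_sup_eq_top
  have hQR : Q ≤ R := Subgroup.map_subtype_le _
  have hQH : Q ≤ H := Subgroup.le_normalizer
  have hQp : IsPGroup p Q := Q0.isPGroup'.map _
  have hQi : Q.relIndex R = (Q0 : Subgroup R).index := by
    rw [Subgroup.relIndex, hQdef, Subgroup.subgroupOf,
      Subgroup.comap_map_eq_self_of_injective R.subtype_injective]
  have hRNQ : R ≤ N ⊔ Q := by
    rw [← Subgroup.relIndex_eq_one]
    refine Nat.eq_one_of_dvd_coprimes
      ((hp.coprime_iff_not_dvd.mpr (hQi ▸ Q0.not_dvd_index)).pow_left b).symm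
      (Subgroup.relIndex_dvd_of_le_left R le_sup_right) ?_
    rw [← hNRi]
    exact Subgroup.relIndex_dvd_of_le_left R le_sup_left
  have hdone : H = ⊤ → ∃ R : Subgroup G, R.Normal ∧ R ≤ U ∧ IsPGroup p R ∧
      ¬ p ∣ R.relIndex U := fun h => by
    refine ⟨Q, Subgroup.normalizer_eq_top_iff.mp h, hQR.trans hRU, hQp, ?_⟩
    rw [← Subgroup.relIndex_mul_relIndex Q R U hQR hRU, hp.dvd_mul, not_or, hQi]
    exact ⟨Q0.not_dvd_index, hRi⟩
  have htopN : H ⊔ N = ⊤ := top_unique (hFr ▸ sup_le le_sup_left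
    (hRNQ.trans (sup_le le_sup_right (hQH.trans le_sup_left))))
  rcases hNmin (N ⊓ elemGen p G) inferInstance inf_le_left with hNO | hNO
  · -- `N` centralizes the `p`-elements
    refine hdone (top_unique (htopN ▸ sup_le le_rfl fun m hm => ?_))
    have hcq : ∀ q ∈ Q, m * q * m⁻¹ = q := fun q hq => by
      have h2 : m * q * m⁻¹ * q⁻¹ ∈ N ⊓ elemGen p G := by
        have hqO := mem_elemGen_of_isPGroup p hQp hq
        refine Subgroup.mem_inf.mpr ⟨?_, mul_mem
          ((inferInstance : (elemGen p G).Normal).conj_mem q hqO m) (inv_mem hqO)⟩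
        rw [show m * q * m⁻¹ * q⁻¹ = m * (q * m⁻¹ * q⁻¹) by group]
        exact mul_mem hm (hNn.conj_mem _ (inv_mem hm) q)
      rwa [hNO, Subgroup.mem_bot, mul_inv_eq_one] at h2
    refine Subgroup.mem_normalizer_iff.mpr fun q => ⟨fun hq => (hcq q hq).symm ▸ hq, fun hq => ?_⟩
    have h3 := hcq _ hq
    have h4 : m * q * m⁻¹ = q := by
      have := congrArg (fun y => m⁻¹ * y * m) h3
      simpa [mul_assoc] using this
    exact h4 ▸ hq
  -- `N` is elementary abelian
  have hNO' : N ≤ elemGen p G := inf_eq_left.mp hNO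
  obtain ⟨hcomm, r, hr, hexp⟩ := minimal_solvable hN hNmin
    (solvable_of_solvable_injective (Subgroup.inclusion_injective hNO'))
  haveI := Fact.mk hr
  have hNr : IsPGroup r N := fun x => ⟨1, Subtype.ext (by simpa using hexp x x.2)⟩
  rcases hNmin (N ⊓ H) ⟨fun x hx g => by
      obtain ⟨h, hh, m, hm, rfl⟩ :=
        Subgroup.mem_sup_of_normal_right.mp (htopN ▸ Subgroup.mem_top g)
      have e : h * m * x * (h * m)⁻¹ = h * x * h⁻¹ := by
        rw [show h * m * x * (h * m)⁻¹ = h * (m * x) * m⁻¹ * h⁻¹ by group,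
          (hcomm m hm x hx.1).eq]
        group
      rw [e]
      exact Subgroup.mem_inf.mpr ⟨hNn.conj_mem x hx.1 h, H.mul_mem (H.mul_mem hh hx.2) (H.inv_mem hh)⟩⟩ inf_le_left with
    hNH | hNH
  swap
  · exact hdone (top_unique (htopN ▸ sup_le le_rfl (inf_eq_left.mp hNH)))
  exfalso
  -- a nontrivial character with inertia group of index prime to `p`
  suffices hex : ∃ lam : N →* ℂˣ, lam ≠ 1 ∧
      ¬ p ∣ (inertia N (fun m : N => (lam m : ℂ))).index by
    obtain ⟨lam, hlam, hT⟩ := hex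
    set T := inertia N (fun m : N => (lam m : ℂ)) with hTdef
    have hNT : N ≤ T := le_inertia N (isClassFunction_irr ⟨_, isIrrCharacter_monoidHom lam⟩)
    have hRT : R ≤ T := by
      rw [← Subgroup.relIndex_eq_one]
      refine Nat.eq_one_of_dvd_coprimes ((hp.coprime_iff_not_dvd.mpr hT).pow_left b).symm
        (relIndex_dvd_index' T R) ?_
      rw [← hNRi]
      exact Subgroup.relIndex_dvd_of_le_left R hNT
    set S : Set G := {x | ∃ q ∈ Q, ∃ m ∈ N, x = q * m * q⁻¹ * m⁻¹} with hSdef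
    have hSN : Subgroup.closure S ≤ N := (Subgroup.closure_le _).mpr fun x hx => by
      obtain ⟨q, _, m, hm, rfl⟩ := hx
      exact mul_mem (hNn.conj_mem m hm q) (inv_mem hm)
    have hSn : (Subgroup.closure S).Normal := by
      refine ⟨fun x hx g => ?_⟩
      obtain ⟨h, hh, m, hm, rfl⟩ :=
        Subgroup.mem_sup_of_normal_right.mp (htopN ▸ Subgroup.mem_top g)
      have e : h * m * x * (h * m)⁻¹ = (MulAut.conj h).toMonoidHom x := by
        rw [show h * m * x * (h * m)⁻¹ = h * (m * x) * m⁻¹ * h⁻¹ by group,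
          (hcomm m hm x (hSN hx)).eq]
        simp [mul_assoc]
      rw [e]
      refine ((Subgroup.map_le_iff_le_comap.mpr ((Subgroup.closure_le _).mpr ?_)) :
        (Subgroup.closure S).map (MulAut.conj h).toMonoidHom ≤ Subgroup.closure S)
        (Subgroup.mem_map_of_mem _ hx)
      rintro _ ⟨q, hq, k, hk, rfl⟩
      refine Subgroup.subset_closure ⟨h * q * h⁻¹,
        (Subgroup.mem_normalizer_iff.mp hh q).mp hq, h * k * h⁻¹, hNn.conj_mem k hk h, ?_⟩
      simp only [MulEquiv.coe_toMonoidHom, MulAut.conj_apply]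
      group
    rcases hNmin _ hSn hSN with h0 | h0
    · apply hN
      rw [← hNH, eq_comm, inf_eq_left]
      intro m hm
      have hcq : ∀ q ∈ Q, m * q * m⁻¹ = q := fun q hq => by
        have h1 : q * m * q⁻¹ * m⁻¹ ∈ Subgroup.closure S :=
          Subgroup.subset_closure ⟨q, hq, m, hm, rfl⟩
        rw [h0, Subgroup.mem_bot, mul_inv_eq_one, mul_inv_eq_iff_eq_mul] at h1
        rw [← h1, mul_inv_cancel_right]
      refine Subgroup.mem_normalizer_iff.mpr fun q =>
        ⟨fun hq => (hcq q hq).symm ▸ hq, fun hq => ?_⟩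
      have h3 := hcq _ hq
      have h4 : m * q * m⁻¹ = q := by
        have := congrArg (fun y => m⁻¹ * y * m) h3
        simpa [mul_assoc] using this
      exact h4 ▸ hq
    · refine hlam (MonoidHom.ext fun m => ?_)
      have h1 : Subgroup.closure S ≤ lam.ker.map N.subtype := (Subgroup.closure_le _).mpr
        fun x hx => by
          obtain ⟨q, hq, k, hk, rfl⟩ := hx
          refine ⟨⟨q * k * q⁻¹, hNn.conj_mem k hk q⟩ * ⟨k, hk⟩⁻¹, ?_, by simp⟩
          have h2 : lam ⟨q * k * q⁻¹, hNn.conj_mem k hk q⟩ = lam ⟨k, hk⟩ :=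
            Units.ext ((mem_inertia_iff N).mp (hRT (hQR hq)) ⟨k, hk⟩)
          show lam _ = 1
          rw [map_mul, map_inv, h2, mul_inv_cancel]
      rw [h0] at h1
      obtain ⟨k, hk, e⟩ := h1 m.2
      rw [← Subtype.ext e, MonoidHom.one_apply]
      exact hk
  haveI : Group.IsNilpotent N := hNr.isNilpotent
  rcases hr.eq_two_or_odd' with rfl | hodd
  · -- every linear character of an elementary abelian `2`-group is real
    haveI : Nontrivial N := (Subgroup.nontrivial_iff_ne_bot N).mpr hN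
    obtain ⟨x, hx⟩ := exists_ne (1 : N)
    letI : CommGroup N :=
      { (inferInstance : Group N) with mul_comm := fun u v => Subtype.ext (hcomm u u.2 v v.2) }
    obtain ⟨lam, hlam⟩ := CommGroup.exists_apply_ne_one_of_hasEnoughRootsOfUnity N ℂ hx
    refine ⟨lam, fun h => hlam (by rw [h]; rfl), ?_⟩
    set T := inertia N (fun m : N => (lam m : ℂ)) with hTdef
    have hNT : N ≤ T := le_inertia N (isClassFunction_irr ⟨_, isIrrCharacter_monoidHom lam⟩)
    have hinv : ∀ s ∈ T ⊓ H, ∀ m m' : N, (m' : G) = s * (m : G) * s⁻¹ → lam m' = lam m :=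
      fun s hs m m' e => by
        have h1 : m' = ⟨s * m * s⁻¹, hNn.conj_mem _ m.2 s⟩ := Subtype.ext e
        exact Units.ext (h1 ▸ (mem_inertia_iff N).mp hs.1 m)
    obtain ⟨f, hf⟩ := exists_extend_sup N (T ⊓ H) (le_bot_iff.mp
      (hNH ▸ le_inf inf_le_left (inf_le_right.trans inf_le_right))) lam hinv
    have hTD : T ≤ N ⊔ (T ⊓ H) := fun g hg => by
      obtain ⟨h, hh, m, hm, rfl⟩ :=
        Subgroup.mem_sup_of_normal_right.mp (htopN ▸ Subgroup.mem_top g)
      exact mul_mem (Subgroup.mem_sup_right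
        ⟨(mul_mem_cancel_right (hNT hm)).mp hg, hh⟩) (Subgroup.mem_sup_left hm)
    obtain ⟨χ, hχr, hχ⟩ := exists_real_over N lam (N ⊔ (T ⊓ H)) le_sup_left
      (sup_le hNT inf_le_left) (by rw [Subgroup.relIndex_eq_one.mpr hTD]; exact odd_one) f
      (fun m => hf m 1 _ (by simp)) 1 fun d => by
        refine ⟨by simp, ?_⟩
        obtain ⟨m, hm, s, hs, e⟩ := Subgroup.mem_sup_of_normal_left.mp d.2
        have h2 : lam ⟨m, hm⟩ * lam ⟨m, hm⟩ = 1 := by
          rw [← map_mul, ← pow_two, show (⟨m, hm⟩ : N) ^ 2 = 1 from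
            Subtype.ext (by simpa using hexp m hm), map_one]
        rw [show (⟨1 * (d : G) * 1⁻¹, _⟩ : ↥(N ⊔ (T ⊓ H))) = d from Subtype.ext (by simp),
          hf ⟨m, hm⟩ ⟨s, hs⟩ d e.symm, eq_inv_iff_mul_eq_one, h2]
    exact not_dvd_index_of_constituent hreal hχr (isIrrCharacter_monoidHom lam) hχ
  · -- some `2`-element moves `N`
    have hNodd : Odd (Nat.card N) := by
      obtain ⟨k, hk⟩ := IsPGroup.iff_card.mp hNr
      rw [hk]; exact hodd.pow
    obtain ⟨g, ⟨k, hk⟩, hg⟩ : ∃ g : G, (∃ k : ℕ, orderOf g = 2 ^ k) ∧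
        g ∉ Subgroup.centralizer (N : Set G) := by
      by_contra hno
      push_neg at hno
      apply hN
      rw [← hNH, eq_comm, inf_eq_left]
      refine hNK.trans ((Subgroup.closure_le _).mpr fun g hg => ?_)
      obtain ⟨h, hh, m, hm, rfl⟩ :=
        Subgroup.mem_sup_of_normal_right.mp (htopN ▸ Subgroup.mem_top g)
      obtain ⟨k, hk⟩ := hg
      have h1 : m * (h * m) = (h * m) * m :=
        Subgroup.mem_centralizer_iff.mp (hno _ ⟨k, hk⟩) m hm
      have hcm : Commute h m := by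
        rw [← mul_assoc] at h1
        exact (mul_right_cancel h1).symm
      have h2 : h ^ 2 ^ k * m ^ 2 ^ k = 1 := by
        rw [← hcm.mul_pow, ← hk, pow_orderOf_eq_one]
      have h3 : m ^ 2 ^ k = 1 := by
        have : m ^ 2 ^ k ∈ N ⊓ H := Subgroup.mem_inf.mpr ⟨N.pow_mem hm _, by
          rw [eq_inv_of_mul_eq_one_right h2]; exact H.inv_mem (H.pow_mem hh _)⟩
        rwa [hNH, Subgroup.mem_bot] at this
      have h4 : m = 1 := orderOf_eq_one_iff.mp (Nat.eq_one_of_dvd_coprimes
        ((Nat.coprime_two_right.mpr hNodd).pow_right k) (Subgroup.orderOf_dvd_natCard N hm)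
        (orderOf_dvd_of_pow_eq_one h3))
      rw [h4, mul_one]
      exact hh
    obtain ⟨t, ht1, ht2⟩ := exists_sq_mem hk hg
    obtain ⟨μ, hμ, hμt⟩ := exists_inverted_of_normal N hNodd t ht2 ht1
    obtain ⟨χ, hχr, hχ⟩ := exists_real_over_inverted N hNodd μ t hμt
    exact ⟨μ, hμ, not_dvd_index_of_constituent hreal hχr (isIrrCharacter_monoidHom μ) hχ⟩

end CfsgLib.RealDegree
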