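import Cfsg.Agent.Lib.Char.Clifford
import Cfsg.Agent.Lib.Char.Constituents
import Cfsg.Agent.Lib.Char.Induced
import Cfsg.Agent.Lib.Char.Counting
import Cfsg.Agent.Lib.RootSub.RankOne

/-!
# Real characters over inverted linear characters

An induced linear character which is sent to its inverse by a normalizing element is real, and has
a real constituent if a suitable index is odd.
-/

set_option autoImplicit false
set_option linter.unusedSectionVars false
set_option linter.style.haveILetI false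

namespace CfsgLib.RealDegree

open Cfsg CfsgLib.Char
open scoped ComplexConjugate CfsgLib.Char Pointwise

/-- The subgroup generated by the `p`-elements. -/
abbrev elemGen (p : ℕ) (G : Type*) [Group G] : Subgroup G :=
  Subgroup.closure {g : G | ∃ k : ℕ, orderOf g = p ^ k}

/-- Every real irreducible character has degree prime to `p`. -/
abbrev RealPrime (p : ℕ) (G : Type*) [Group G] : Prop :=
  ∀ χ : IrrCharacter G, (∀ g : G, ((χ : G → ℂ) g).im = 0) → ¬ p ∣ charDegree (χ : G → ℂ)

variable {G : Type*} [Group G]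

theorem charDegree_of_eq {χ : G → ℂ} {d : ℕ} (h : χ 1 = d) : charDegree χ = d := by
  rw [charDegree, h, Complex.natCast_re, Nat.floor_natCast]

theorem conj_unit [Finite G] (f : G →* ℂˣ) (g : G) :
    conj ((f g : ℂˣ) : ℂ) = (((f g)⁻¹ : ℂˣ) : ℂ) := by
  have h1 : ((f g : ℂˣ) : ℂ) ^ Nat.card G = 1 := by
    rw [← Units.val_pow_eq_pow_val, ← map_pow, pow_card_eq_one', map_one, Units.val_one]
  rw [Units.val_inv_eq_inv_val,
    Complex.inv_eq_conj (Complex.norm_eq_one_of_pow_eq_one h1 Nat.card_pos.ne')]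

section Key

variable [Fintype G]

/-- The orbit size of a constituent divides the degree, so it is prime to `p` for a real
character. -/
theorem not_dvd_index_of_constituent {p : ℕ} (hreal : RealPrime p G) {M : Subgroup G} [M.Normal]
    [Fintype M] {χ : IrrCharacter G} (hχr : ∀ g : G, ((χ : G → ℂ) g).im = 0) {θ : M → ℂ}
    (hθ : IsIrrCharacter M θ) (hcon : classInner (fun m : M => (χ : G → ℂ) m) θ ≠ 0) :
    ¬ p ∣ (inertia M θ).index := by
  obtain ⟨e, he⟩ := exists_nat_classInner (isCharacter_restrict M (isCharacter_of_isIrr χ.2))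
    (isCharacter_of_isIrr hθ)
  obtain ⟨d, hd⟩ := exists_nat_degree (isCharacter_of_isIrr hθ)
  have h1 := clifford_degree M χ.2 hθ hcon
  rw [he, hd, card_orbit_eq_index] at h1
  intro hp
  refine hreal χ hχr ?_
  rw [charDegree_of_eq (d := e * ((inertia M θ).index * d)) (by rw [h1]; push_cast; ring)]
  exact (hp.mul_right d).mul_left e

/-- A linear character of an overgroup of odd index in the inertia group, sent to its inverse by
a normalizing element, gives a real character above its restriction. -/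
theorem exists_real_over (M : Subgroup G) [M.Normal] [Fintype M] (lam : M →* ℂˣ) (D : Subgroup G)
    (hMD : M ≤ D) (hDT : D ≤ inertia M (fun m : M => (lam m : ℂ)))
    (hodd : Odd (D.relIndex (inertia M (fun m : M => (lam m : ℂ))))) (f : D →* ℂˣ)
    (hf : ∀ m : M, f ⟨(m : G), hMD m.2⟩ = lam m) (t : G)
    (ht : ∀ d : D, ∃ h : t * (d : G) * t⁻¹ ∈ D, f ⟨t * (d : G) * t⁻¹, h⟩ = (f d)⁻¹) :
    ∃ χ : IrrCharacter G, (∀ g : G, ((χ : G → ℂ) g).im = 0) ∧
      classInner (fun m : M => (χ : G → ℂ) m) (fun m : M => (lam m : ℂ)) ≠ 0 := by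
  classical
  haveI : Finite (IrrCharacter G) := finite_irrCharacter
  haveI : Fintype D := Fintype.ofFinite D
  set θ : M → ℂ := fun m => (lam m : ℂ) with hθdef
  have hθ : IsIrrCharacter M θ := isIrrCharacter_monoidHom lam
  set φ : D → ℂ := fun d => (f d : ℂ) with hφdef
  have hφ : IsIrrCharacter D φ := isIrrCharacter_monoidHom f
  set ψ : G → ℂ := indFun D φ with hψdef
  -- the induced character is real
  have hDt : ∀ y : G, t * y * t⁻¹ ∈ D → y ∈ D := by
    intro y hy
    have hb : Function.Bijective fun d : D => (⟨t * (d : G) * t⁻¹, (ht d).1⟩ : D) := by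
      refine Finite.injective_iff_bijective.mp fun a b h => ?_
      simpa using congrArg Subtype.val h
    obtain ⟨d, hd⟩ := hb.2 ⟨t * y * t⁻¹, hy⟩
    have e : (d : G) = y := by simpa using congrArg Subtype.val hd
    exact e ▸ d.2
  have hψreal : ∀ g, conj (ψ g) = ψ g := by
    intro g
    simp only [hψdef, indFun, map_mul, map_inv₀, map_natCast, map_sum]
    congr 1
    refine Fintype.sum_equiv (Equiv.mulRight t⁻¹) _ _ fun x => ?_
    simp only [Equiv.coe_mulRight, mul_inv_rev, inv_inv]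
    have e : t * x⁻¹ * g * (x * t⁻¹) = t * (x⁻¹ * g * x) * t⁻¹ := by group
    rw [e]
    by_cases hx : x⁻¹ * g * x ∈ D
    · obtain ⟨h1, h2⟩ := ht ⟨_, hx⟩
      rw [extendByZero_mem D φ hx, extendByZero_mem D φ h1]
      simp only [hφdef, h2]
      exact conj_unit f _
    · rw [extendByZero_notMem D φ hx, extendByZero_notMem D φ (fun h => hx (hDt _ h)), map_zero]
  obtain ⟨a, ha⟩ := exists_multiplicities (isCharacter_indFun D (isCharacter_of_isIrr hφ))
  -- every constituent lies over `lam`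
  have hover : ∀ χ : IrrCharacter G, a χ ≠ 0 →
      classInner (fun m : M => (χ : G → ℂ) m) θ ≠ 0 := by
    intro χ hχ
    obtain ⟨b, hb⟩ := exists_multiplicities (isCharacter_restrict D (isCharacter_of_isIrr χ.2))
    have hbf : b ⟨φ, hφ⟩ = a χ := by
      have h1 : classInner (fun d : D => (χ : G → ℂ) d) φ = (a χ : ℂ) := by
        rw [← frobenius_reciprocity' D φ (isClassFunction_irr χ), ← classInner_conj_symm, ha,
          classInner_sum_smul_irr, map_natCast]
      rw [hb, classInner_sum_smul_irr _ ⟨φ, hφ⟩] at h1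
      exact_mod_cast h1
    choose q hq using fun ξ : IrrCharacter D => exists_nat_classInner
      (isCharacter_resTo M D hMD (isCharacter_of_isIrr ξ.2)) (isCharacter_of_isIrr hθ)
    have hres : (fun m : M => (χ : G → ℂ) m) =
        ∑ ξ : IrrCharacter D, (b ξ : ℂ) • resTo M D hMD (ξ : D → ℂ) := by
      funext m
      have := congrFun hb ⟨(m : G), hMD m.2⟩
      simpa [Finset.sum_apply, resTo] using this
    have hqf : q ⟨φ, hφ⟩ = 1 := by
      have h1 : resTo M D hMD φ = θ := funext fun m => by simp [resTo, hφdef, hθdef, hf m]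
      have h2 := hq ⟨φ, hφ⟩
      simp only [h1, classInner_irr_self hθ] at h2
      exact_mod_cast h2.symm
    rw [hres, classInner_sum_left]
    simp only [classInner_smul_left, hq, ← Nat.cast_mul, ← Nat.cast_sum, ne_eq, Nat.cast_eq_zero,
      Finset.sum_eq_zero_iff, not_forall]
    exact ⟨⟨φ, hφ⟩, Finset.mem_univ _, by simp [hbf, hqf, hχ]⟩
  choose n hn using fun χ : IrrCharacter G => exists_nat_classInner
    (isCharacter_restrict M (isCharacter_of_isIrr χ.2)) (isCharacter_of_isIrr hθ)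
  set T := inertia M θ with hTdef
  have hdeg : ∀ χ : IrrCharacter G, a χ ≠ 0 → (χ : G → ℂ) 1 = ((n χ * T.index : ℕ) : ℂ) := by
    intro χ hχ
    rw [clifford_degree M χ.2 hθ (hover χ hχ), hn, card_orbit_eq_index]
    simp [hθdef, hTdef]
  have hsum : ∑ χ : IrrCharacter G, a χ * n χ = D.relIndex T := by
    have h1 : ((D.index : ℕ) : ℂ) = ∑ χ : IrrCharacter G, (a χ : ℂ) * (χ : G → ℂ) 1 := by
      have h := congrFun ha 1
      rw [indFun_one, hφdef] at h
      simpa [Finset.sum_apply] using h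
    have h2 : D.index = T.index * ∑ χ : IrrCharacter G, a χ * n χ := by
      have : ((D.index : ℕ) : ℂ) = ((T.index * ∑ χ : IrrCharacter G, a χ * n χ : ℕ) : ℂ) := by
        rw [h1, Finset.mul_sum, Nat.cast_sum]
        refine Finset.sum_congr rfl fun χ _ => ?_
        rcases eq_or_ne (a χ) 0 with h | h
        · simp [h]
        · rw [hdeg χ h]; push_cast; ring
      exact_mod_cast this
    rw [← Subgroup.relIndex_mul_index hDT, mul_comm (D.relIndex T)] at h2
    exact (Nat.eq_of_mul_eq_mul_left (Nat.pos_of_ne_zero T.index_ne_zero_of_finite) h2).symm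
  -- complex conjugation fixes some constituent of odd multiplicity
  let c : IrrCharacter G → IrrCharacter G := fun χ =>
    ⟨fun g => conj ((χ : G → ℂ) g), isIrrCharacter_conj χ.2⟩
  have hcc : ∀ χ, c (c χ) = χ := fun χ => Subtype.ext (funext fun g => Complex.conj_conj _)
  have hca : ∀ χ, a (c χ) = a χ := by
    intro χ
    have h1 : classInner ψ (c χ : G → ℂ) = conj (classInner ψ (χ : G → ℂ)) := by
      simp only [classInner, map_mul, map_sum, map_inv₀, map_natCast, c, hψreal]
    rw [hψdef, ha, classInner_sum_smul_irr, classInner_sum_smul_irr, map_natCast] at h1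
    exact_mod_cast h1
  have hcn : ∀ χ, a χ ≠ 0 → n (c χ) = n χ := by
    intro χ hχ
    have h1 := hdeg (c χ) (by rwa [hca])
    have h2 : (c χ : G → ℂ) 1 = ((n χ * T.index : ℕ) : ℂ) := by
      show conj ((χ : G → ℂ) 1) = _
      rw [hdeg χ hχ, map_natCast]
    have h3 : n (c χ) * T.index = n χ * T.index := by exact_mod_cast h1.symm.trans h2
    exact Nat.eq_of_mul_eq_mul_right (Nat.pos_of_ne_zero T.index_ne_zero_of_finite) h3
  have hex : ∃ χ, c χ = χ ∧ a χ ≠ 0 := by
    by_contra hno
    push_neg at hno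
    have hzero : ∑ χ : IrrCharacter G, ((a χ * n χ : ℕ) : ZMod 2) = 0 := by
      refine Finset.sum_involution (fun χ _ => c χ) (fun χ _ => ?_) (fun χ _ h => ?_)
        (fun χ _ => Finset.mem_univ _) (fun χ _ => hcc χ)
      · rcases eq_or_ne (a χ) 0 with h | h
        · simp [h, hca χ]
        · rw [hca χ, hcn χ h, ← two_nsmul, two_nsmul]
          exact CharTwo.add_self_eq_zero _
      · intro he
        exact h (by simp [hno χ he])
    rw [← Nat.cast_sum, hsum, ZMod.natCast_eq_zero_iff] at hzero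
    exact (Nat.not_even_iff_odd.mpr hodd) (even_iff_two_dvd.mpr hzero)
  obtain ⟨χ, hc, hχ⟩ := hex
  exact ⟨χ, fun g => Complex.conj_eq_iff_im.mp (congrFun (congrArg Subtype.val hc) g), hover χ hχ⟩

end Key

/-- A linear character of a normal subgroup, invariant under a complement, extends to the join. -/
theorem exists_extend_sup (M S : Subgroup G) [M.Normal] (hMS : M ⊓ S = ⊥) (lam : M →* ℂˣ)
    (hinv : ∀ s ∈ S, ∀ m m' : M, (m' : G) = s * (m : G) * s⁻¹ → lam m' = lam m) :
    ∃ f : ↥(M ⊔ S) →* ℂˣ, ∀ (m : M) (s : S) (x : ↥(M ⊔ S)), (x : G) = (m : G) * s → f x = lam m := by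
  have huniq : ∀ (m m' : M) (s s' : S), (m : G) * s = (m' : G) * s' → m = m' := by
    intro m m' s s' e
    have e2 : (m' : G)⁻¹ * m = (s' : G) * (s : G)⁻¹ := by
      rw [inv_mul_eq_iff_eq_mul, ← mul_assoc, ← e, mul_inv_cancel_right]
    have e3 : (m' : G)⁻¹ * m ∈ M ⊓ S :=
      Subgroup.mem_inf.mpr ⟨M.mul_mem (M.inv_mem m'.2) m.2,
        e2 ▸ S.mul_mem s'.2 (S.inv_mem s.2)⟩
    rw [hMS, Subgroup.mem_bot, inv_mul_eq_one] at e3
    exact (Subtype.ext e3).symm
  have hex : ∀ x : ↥(M ⊔ S), ∃ (m : M) (s : S), (x : G) = (m : G) * s := fun x => by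
    obtain ⟨m, hm, s, hs, e⟩ := Subgroup.mem_sup_of_normal_left.mp x.2
    exact ⟨⟨m, hm⟩, ⟨s, hs⟩, e.symm⟩
  choose m s hms using hex
  refine ⟨MonoidHom.mk' (fun x => lam (m x)) fun x y => ?_, fun m' s' x hx => ?_⟩
  · let c : M := ⟨(s x : G) * (m y : G) * (s x : G)⁻¹,
      (inferInstance : M.Normal).conj_mem _ (m y).2 _⟩
    have h1 : m (x * y) = m x * c := by
      refine huniq _ _ (s (x * y)) (s x * s y) ((hms _).symm.trans ?_)
      simp only [Subgroup.coe_mul, c]
      rw [hms x, hms y]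
      group
    rw [h1, map_mul, hinv (s x) (s x).2 (m y) c rfl]
  · exact congrArg lam (huniq _ _ (s x) s' ((hms x).symm.trans hx))

/-- An element inverting a linear character of a normal subgroup may be replaced by its `2`-part. -/
theorem exists_twoElement_inverts [Finite G] (M : Subgroup G) [M.Normal] (lam : M →* ℂˣ) (t : G)
    (ht : ∀ m m' : M, (m' : G) = t * (m : G) * t⁻¹ → lam m' = (lam m)⁻¹) :
    ∃ u : G, (∃ k : ℕ, orderOf u = 2 ^ k) ∧
      ∀ m m' : M, (m' : G) = u * (m : G) * u⁻¹ → lam m' = (lam m)⁻¹ := by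
  obtain ⟨k, r, hr, hkr⟩ := Nat.exists_eq_pow_mul_and_not_dvd (orderOf_pos t).ne' 2 (by norm_num)
  refine ⟨t ^ r, ⟨k, ?_⟩, ?_⟩
  · have hr0 : r ≠ 0 := by rintro rfl; exact hr (dvd_zero 2)
    rw [orderOf_pow' t hr0, hkr, Nat.gcd_eq_right (Dvd.intro_left _ rfl),
      Nat.mul_div_cancel _ (Nat.pos_of_ne_zero hr0)]
  · obtain ⟨j, rfl⟩ : Odd r := Nat.odd_iff.mpr (Nat.two_dvd_ne_zero.mp hr)
    have key : ∀ j : ℕ, ∀ m m' : M, (m' : G) = t ^ (2 * j + 1) * (m : G) * (t ^ (2 * j + 1))⁻¹ →
        lam m' = (lam m)⁻¹ := by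
      intro j
      induction j with
      | zero => intro m m' h; exact ht m m' (by simpa using h)
      | succ j ih =>
        intro m m' h
        have hn : M.Normal := inferInstance
        let m1 : M := ⟨t * (m : G) * t⁻¹, hn.conj_mem _ m.2 _⟩
        let m2 : M := ⟨t * (m1 : G) * t⁻¹, hn.conj_mem _ m1.2 _⟩
        have e : (m' : G) = t ^ (2 * j + 1) * (m2 : G) * (t ^ (2 * j + 1))⁻¹ := by
          rw [h, show 2 * (j + 1) + 1 = 2 * j + 1 + 1 + 1 by ring, pow_succ, pow_succ _ (2 * j + 1)]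
          simp only [m1, m2]
          group
        rw [ih m2 m' e, ht m1 m2 rfl, ht m m1 rfl, inv_inv]
    exact key j

variable [Fintype G]

/-- A linear character of a normal subgroup of odd order which some element sends to its inverse
lies under a real character. -/
theorem exists_real_over_inverted (M : Subgroup G) [M.Normal] [Fintype M] (hM : Odd (Nat.card M))
    (lam : M →* ℂˣ) (t : G)
    (ht : ∀ m m' : M, (m' : G) = t * (m : G) * t⁻¹ → lam m' = (lam m)⁻¹) :
    ∃ χ : IrrCharacter G, (∀ g : G, ((χ : G → ℂ) g).im = 0) ∧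
      classInner (fun m : M => (χ : G → ℂ) m) (fun m : M => (lam m : ℂ)) ≠ 0 := by
  classical
  obtain ⟨u, ⟨k, hk⟩, hu⟩ := exists_twoElement_inverts M lam t ht
  set θ : M → ℂ := fun m => (lam m : ℂ) with hθdef
  set T := inertia M θ with hTdef
  have hn : M.Normal := inferInstance
  have hMT : M ≤ T := le_inertia M (isClassFunction_irr ⟨θ, isIrrCharacter_monoidHom lam⟩)
  have hTiff : ∀ g, g ∈ T ↔ ∀ m m' : M, (m' : G) = g * (m : G) * g⁻¹ → lam m' = lam m := by
    intro g
    rw [hTdef, mem_inertia_iff]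
    constructor
    · intro h m m' e
      have h1 : m' = ⟨g * m * g⁻¹, hn.conj_mem _ m.2 g⟩ := Subtype.ext e
      exact Units.ext (h1 ▸ h m)
    · intro h m
      exact congrArg Units.val (h m _ rfl)
  -- `u` normalizes the inertia group
  have huT : ∀ g ∈ T, u * g * u⁻¹ ∈ T := by
    intro g hg
    rw [hTiff] at hg ⊢
    intro m m' e
    let m1 : M := ⟨u⁻¹ * (m : G) * u, by simpa using hn.conj_mem _ m.2 u⁻¹⟩
    let m2 : M := ⟨g * (m1 : G) * g⁻¹, hn.conj_mem _ m1.2 g⟩
    rw [hu m2 m' (by rw [e]; simp only [m1, m2]; group), hg m1 m2 rfl,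
      ← hu m1 m (by simp only [m1]; group)]
  set U : Subgroup G := Subgroup.zpowers u with hUdef
  have hU2 : IsPGroup 2 U := IsPGroup.of_card (n := k) (by rw [hUdef, Nat.card_zpowers, hk])
  have hUT : U ≤ Subgroup.normalizer (T : Set G) := by
    have hbij : Function.Bijective fun g : T => (⟨u * (g : G) * u⁻¹, huT g g.2⟩ : T) :=
      Finite.injective_iff_bijective.mp fun a b h => by simpa using congrArg Subtype.val h
    rw [hUdef, Subgroup.zpowers_le, Subgroup.mem_normalizer_iff]
    refine fun g => ⟨huT g, fun hg => ?_⟩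
    obtain ⟨g', hg'⟩ := hbij.2 ⟨_, hg⟩
    have e : (g' : G) = g := by simpa using congrArg Subtype.val hg'
    exact e ▸ g'.2
  -- a Sylow `2`-subgroup of the inertia group invariant under `u`
  haveI : Fact (Nat.Prime 2) := ⟨Nat.prime_two⟩
  letI : MulDistribMulAction U T := MulDistribMulAction.compHom T (Subgroup.inclusion hUT)
  obtain ⟨S0, hS0⟩ := hU2.nonempty_fixed_point_of_prime_not_dvd_card (Sylow 2 T)
    (not_dvd_card_sylow 2 T)
  set S : Subgroup G := (S0 : Subgroup T).map T.subtype with hSdef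
  have hST : S ≤ T := Subgroup.map_subtype_le _
  have hUS : ∀ s ∈ S, u * s * u⁻¹ ∈ S := by
    rintro _ ⟨s, hs, rfl⟩
    have h1 : (⟨u, Subgroup.mem_zpowers u⟩ : U) • s ∈
        (⟨u, Subgroup.mem_zpowers u⟩ : U) • (S0 : Subgroup T) :=
      Subgroup.smul_mem_pointwise_smul s _ _ hs
    rw [← Sylow.pointwise_smul_def, hS0 ⟨u, Subgroup.mem_zpowers u⟩] at h1
    exact ⟨_, h1, rfl⟩
  have hS2 : IsPGroup 2 S := S0.isPGroup'.map _
  have hMS : M ⊓ S = ⊥ := by
    obtain ⟨n, hn2⟩ := IsPGroup.iff_card.mp hS2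
    refine Subgroup.inf_eq_bot_of_coprime ?_
    rw [hn2]
    exact (Nat.coprime_two_right.mpr hM).pow_right n
  obtain ⟨f, hf⟩ := exists_extend_sup M S hMS lam fun s hs => (hTiff s).mp (hST hs)
  have hMD : M ≤ M ⊔ S := le_sup_left
  have hodd : Odd ((M ⊔ S).relIndex T) := by
    refine Odd.of_dvd_nat ?_ (Subgroup.relIndex_dvd_of_le_left T (le_sup_right : S ≤ M ⊔ S))
    have e : S.relIndex T = (S0 : Subgroup T).index := by
      rw [Subgroup.relIndex, hSdef, Subgroup.subgroupOf,
        Subgroup.comap_map_eq_self_of_injective T.subtype_injective]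
    rw [e]
    exact Nat.odd_iff.mpr (Nat.two_dvd_ne_zero.mp S0.not_dvd_index)
  refine exists_real_over M lam (M ⊔ S) hMD (sup_le hMT hST) hodd f
    (fun m => hf m 1 _ (by simp)) u fun d => ?_
  obtain ⟨m, hm, s, hs, e⟩ := Subgroup.mem_sup_of_normal_left.mp d.2
  have hd : u * (d : G) * u⁻¹ = (u * m * u⁻¹) * (u * s * u⁻¹) := by rw [← e]; group
  refine ⟨hd ▸ (M ⊔ S).mul_mem (hMD (hn.conj_mem m hm u))
    (Subgroup.mem_sup_right (hUS s hs)), ?_⟩
  rw [hf ⟨u * m * u⁻¹, hn.conj_mem m hm u⟩ ⟨u * s * u⁻¹, hUS s hs⟩ _ hd,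
    hf ⟨m, hm⟩ ⟨s, hs⟩ d e.symm, hu ⟨m, hm⟩ _ rfl]

/-- A nontrivial involutory automorphism of a nilpotent group of odd order inverts a nontrivial
linear character. -/
theorem exists_inverted {M : Type*} [Group M] [Finite M] [Group.IsNilpotent M]
    (hodd : Odd (Nat.card M)) (σ : M ≃* M) (h2 : ∀ m, σ (σ m) = m) (hne : ∃ m, σ m ≠ m) :
    ∃ μ : M →* ℂˣ, μ ≠ 1 ∧ ∀ m, μ (σ m) = (μ m)⁻¹ := by
  classical
  by_cases hb : ∃ m : M, m⁻¹ * σ m ∉ commutator M
  · obtain ⟨m, hm⟩ := hb
    have hne1 : Abelianization.of (m⁻¹ * σ m) ≠ 1 := by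
      rwa [ne_eq, ← MonoidHom.mem_ker, Abelianization.ker_of]
    obtain ⟨l, hl⟩ := CommGroup.exists_apply_ne_one_of_hasEnoughRootsOfUnity
      (Abelianization M) ℂ hne1
    set lam : M →* ℂˣ := l.comp Abelianization.of with hlamdef
    refine ⟨MonoidHom.mk' (fun x => lam x / lam (σ x)) fun x y => ?_, ?_, fun x => ?_⟩
    · simp only [map_mul, mul_div_mul_comm]
    · intro h
      have h1 := DFunLike.congr_fun h (m⁻¹ * σ m)
      simp only [MonoidHom.mk'_apply, MonoidHom.one_apply] at h1
      have hσb : σ (m⁻¹ * σ m) = (m⁻¹ * σ m)⁻¹ := by simp [h2]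
      rw [hσb, map_inv, div_inv_eq_mul] at h1
      obtain ⟨j, hj⟩ := hodd
      apply hl
      show lam (m⁻¹ * σ m) = 1
      calc lam (m⁻¹ * σ m)
          = (lam (m⁻¹ * σ m) * lam (m⁻¹ * σ m)) ^ j * lam (m⁻¹ * σ m) := by
            rw [h1, one_pow, one_mul]
        _ = lam ((m⁻¹ * σ m) ^ (2 * j + 1)) := by
            rw [map_pow, pow_succ, pow_mul, pow_two]
        _ = 1 := by rw [← hj, pow_card_eq_one', map_one]
    · simp only [MonoidHom.mk'_apply, h2, inv_div]
  · exfalso
    push_neg at hb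
    let C : Subgroup M := σ.toMonoidHom.eqLocus (MonoidHom.id M)
    have htop : C = ⊤ := by
      refine CfsgLib.RootSub.eq_top_of_sup_commutator C (eq_top_iff.mpr fun m _ => ?_)
      set b := m⁻¹ * σ m with hbdef
      have hσb : σ b = b⁻¹ := by simp [hbdef, h2]
      obtain ⟨j, hj⟩ := hodd
      have hbv : b ^ (j + 1) * b ^ (j + 1) = b := by
        rw [← pow_add, show j + 1 + (j + 1) = (2 * j + 1) + 1 by ring, pow_succ, ← hj,
          pow_card_eq_one', one_mul]
      have hC : m * b ^ (j + 1) ∈ C := by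
        show σ (m * b ^ (j + 1)) = m * b ^ (j + 1)
        have hσm : σ m = m * b := by simp [hbdef]
        rw [map_mul, map_pow, hσb, hσm, inv_pow]
        calc m * b * (b ^ (j + 1))⁻¹ = m * (b ^ (j + 1) * b ^ (j + 1)) * (b ^ (j + 1))⁻¹ := by
              rw [hbv]
          _ = m * b ^ (j + 1) := by group
      have h1 := mul_mem (Subgroup.mem_sup_left (T := commutator M) hC)
        (Subgroup.mem_sup_right (S := C) (inv_mem (pow_mem (hb m) (j + 1))))
      rwa [mul_inv_cancel_right] at h1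
    obtain ⟨m, hm⟩ := hne
    exact hm (show m ∈ C from htop ▸ Subgroup.mem_top m)

/-- An element whose square centralizes a normal subgroup of odd nilpotent order, but which itself
does not, inverts a nontrivial linear character. -/
theorem exists_inverted_of_normal (M : Subgroup G) [M.Normal] [Group.IsNilpotent M]
    (hM : Odd (Nat.card M)) (t : G) (h2 : t * t ∈ Subgroup.centralizer (M : Set G))
    (h1 : t ∉ Subgroup.centralizer (M : Set G)) :
    ∃ μ : M →* ℂˣ, μ ≠ 1 ∧
      ∀ m m' : M, (m' : G) = t * (m : G) * t⁻¹ → μ m' = (μ m)⁻¹ := by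
  rw [Subgroup.mem_centralizer_iff] at h1 h2
  obtain ⟨μ, hμ, hinv⟩ := exists_inverted hM (MulAut.conjNormal t : MulAut M)
    (fun m => Subtype.ext (by
      simp only [MulAut.conjNormal_apply]
      have h := h2 m m.2
      calc t * (t * (m : G) * t⁻¹) * t⁻¹ = (t * t) * (m : G) * (t * t)⁻¹ := by group
        _ = (m : G) := by rw [← h, mul_inv_cancel_right]))
    (by
      push_neg at h1
      obtain ⟨m, hm, hne⟩ := h1
      refine ⟨⟨m, hm⟩, fun h => hne ?_⟩
      have := congrArg Subtype.val h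
      rw [MulAut.conjNormal_apply] at this
      exact (mul_inv_eq_iff_eq_mul.mp this).symm)
  refine ⟨μ, hμ, fun m m' e => ?_⟩
  rw [← hinv m]
  exact congrArg μ (Subtype.ext e)

/-- The last power of two of a `2`-element not in a subgroup. -/
theorem exists_sq_mem {H : Subgroup G} {g : G} {k : ℕ} (hk : orderOf g = 2 ^ k) (hg : g ∉ H) :
    ∃ t : G, t ∉ H ∧ t * t ∈ H := by
  induction k generalizing g with
  | zero =>
    exact absurd (orderOf_eq_one_iff.mp (by simpa using hk) ▸ H.one_mem) hg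
  | succ k ih =>
    by_cases h : g * g ∈ H
    · exact ⟨g, hg, h⟩
    · refine ih (g := g * g) ?_ h
      rw [← pow_two, orderOf_pow' g two_ne_zero, hk, pow_succ,
        Nat.gcd_eq_right (Dvd.intro_left _ rfl), Nat.mul_div_cancel _ two_pos]

end CfsgLib.RealDegree
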