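import Cfsg.Agent.Lib.RealDegree.Classes
import Cfsg.Agent.S4914

/-!
# Real characters of a group and of a Sylow normalizer

When the real characters have degree prime to `p` and the `p`-elements generate a solvable
subgroup, the correspondence for invariant characters of the subgroup generated by the
`2`-elements gives a bijection between the real characters of the group and the real characters of
degree prime to `p` of a Sylow normalizer.
-/

set_option autoImplicit false
set_option linter.unusedSectionVars false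
set_option linter.style.haveILetI false

namespace CfsgLib.RealDegree

open Cfsg CfsgLib.Char CfsgLib.Char.OddFixed
open scoped ComplexConjugate CfsgLib.Char Pointwise

/-- A real function. -/
def IsReal {X : Type*} (φ : X → ℂ) : Prop := ∀ x, conj (φ x) = φ x

theorem isReal_iff_im {X : Type*} (φ : X → ℂ) : IsReal φ ↔ ∀ x, (φ x).im = 0 := by
  simp only [IsReal, Complex.conj_eq_iff_im]

variable {G : Type*} [Group G]

theorem isReal_iff_pow [Finite G] (χ : IrrCharacter G) :
    IsReal (χ : G → ℂ) ↔ ∀ g, (χ : G → ℂ) (g ^ (Nat.card G - 1)) = (χ : G → ℂ) g :=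
  (isReal_iff_im _).trans (im_zero_iff χ)

section OddIndex

variable [Fintype G] {N : Subgroup G} [N.Normal] [Fintype N]

theorem real_pow_of_isReal (θ : IrrCharacter N) (h : IsReal (θ : N → ℂ)) (n : N) :
    (θ : N → ℂ) (n ^ (Nat.card G - 1)) = (θ : N → ℂ) n := by
  have e : n ^ (Nat.card G - 1) = n⁻¹ := Subtype.ext (by simpa using pow_neg_one (n : G))
  rw [e, irr_value_inv, h n]

/-- Above a real character of a normal subgroup of odd index lies one real character. -/
theorem exists_unique_real (hodd : Odd N.index) (θ : IrrCharacter N) (hθ : IsReal (θ : N → ℂ)) :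
    ∃! χ : IrrCharacter G,
      classInner (fun n : N => (χ : G → ℂ) n) (θ : N → ℂ) ≠ 0 ∧ IsReal (χ : G → ℂ) := by
  obtain ⟨χ, ⟨h1, h2⟩, h3⟩ := exists_unique_fixed (N := N) (twisting_neg_one G) hodd θ
    (real_pow_of_isReal θ hθ)
  exact ⟨χ, ⟨h1, (isReal_iff_pow χ).mpr h2⟩,
    fun χ' h => h3 χ' h.1 ((isReal_iff_pow χ').mp h.2)⟩

theorem eq_of_real_over (hodd : Odd N.index) (θ : IrrCharacter N) (hθ : IsReal (θ : N → ℂ))
    {χ χ' : IrrCharacter G} (h : classInner (fun n : N => (χ : G → ℂ) n) (θ : N → ℂ) ≠ 0)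
    (hr : IsReal (χ : G → ℂ))
    (h' : classInner (fun n : N => (χ' : G → ℂ) n) (θ : N → ℂ) ≠ 0)
    (hr' : IsReal (χ' : G → ℂ)) : χ = χ' :=
  (exists_unique_real hodd θ hθ).unique ⟨h, hr⟩ ⟨h', hr'⟩

/-- The degree of the real character above a real character. -/
theorem real_degree (hodd : Odd N.index) (θ : IrrCharacter N) (hθ : IsReal (θ : N → ℂ))
    (χ : IrrCharacter G) (hχ : classInner (fun n : N => (χ : G → ℂ) n) (θ : N → ℂ) ≠ 0)
    (hχr : IsReal (χ : G → ℂ)) :
    (χ : G → ℂ) 1 = ((inertia N (θ : N → ℂ)).index : ℂ) * (θ : N → ℂ) 1 := by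
  classical
  set T := inertia N (θ : N → ℂ) with hT
  have hNT : N ≤ T := le_inertia N (isClassFunction_irr θ)
  haveI : Fintype T := Fintype.ofFinite T
  haveI : Fintype (N.subgroupOf T) := Fintype.ofFinite _
  let e := Subgroup.subgroupOfEquivOfLe hNT
  let θ' : IrrCharacter (N.subgroupOf T) :=
    ⟨fun x => (θ : N → ℂ) (e x), isIrrCharacter_comp_mulEquiv e θ.2⟩
  have hodd' : Odd (N.subgroupOf T).index :=
    hodd.of_dvd_nat (Subgroup.relIndex_dvd_index_of_normal N T)
  obtain ⟨ψ, hψ, hψe, hψk⟩ := exists_fixed_extension (twisting_neg_one T) hodd' θ'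
    (real_pow_of_isReal θ' fun x => hθ (e x))
    (fun g => funext fun x => by
      refine Eq.trans ?_ (congrFun ((mem_inertia N).mp g.2) (e x))
      exact congrArg (θ : N → ℂ) (Subtype.ext rfl))
  have hψr : IsReal ψ := (isReal_iff_pow ⟨ψ, hψ⟩).mpr hψk
  have hres : resTo N T hNT ψ = (θ : N → ℂ) := funext fun n => by
    have h1 := hψe (e.symm n)
    have h2 : ((e.symm n : N.subgroupOf T) : T) = ⟨(n : G), hNT n.2⟩ := Subtype.ext rfl
    rw [h2] at h1
    exact h1.trans (congrArg (θ : N → ℂ) (e.apply_symm_apply n))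
  have h1 : classInner (resTo N T hNT ψ) (θ : N → ℂ) ≠ 0 := by
    rw [hres, classInner_irr_self θ.2]
    exact one_ne_zero
  obtain ⟨hirr, hmult, -⟩ :=
    clifford_correspondence N T θ.2 (fun g => mem_inertia N) hNT hψ h1
  have hindr : IsReal (indFun T ψ) := fun g => by
    simp only [indFun, map_mul, map_inv₀, map_natCast, map_sum]
    congr 1
    refine Finset.sum_congr rfl fun x _ => ?_
    by_cases hx : x⁻¹ * g * x ∈ T
    · rw [extendByZero_mem T ψ hx, hψr]
    · rw [extendByZero_notMem T ψ hx, map_zero]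
  have heq : χ = ⟨indFun T ψ, hirr⟩ := eq_of_real_over hodd θ hθ hχ hχr
    (show classInner (fun n : N => indFun T ψ n) (θ : N → ℂ) ≠ 0 by rw [hmult]; exact h1) hindr
  rw [heq]
  show indFun T ψ 1 = _
  have hψ1 : ψ 1 = (θ : N → ℂ) 1 := by
    rw [← hres]
    exact congrArg ψ (Subtype.ext rfl)
  rw [indFun_one, hψ1]

/-- A real character has a real constituent on a normal subgroup of odd index. -/
theorem exists_real_constituent (hodd : Odd N.index) (χ : IrrCharacter G)
    (hχ : IsReal (χ : G → ℂ)) :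
    ∃ θ : IrrCharacter N, IsReal (θ : N → ℂ) ∧
      classInner (fun n : N => (χ : G → ℂ) n) (θ : N → ℂ) ≠ 0 := by
  classical
  obtain ⟨φ, hφ⟩ := exists_constituent N (isCharacter_of_isIrr χ.2) (irr_degree_ne_zero χ.2)
  set O := orbit N (φ : N → ℂ) with hO
  have hirr : ∀ η ∈ O, IsIrrCharacter N η := fun η hη => by
    obtain ⟨g, rfl⟩ := (mem_orbit N).mp hη
    exact isIrrCharacter_conjBy N φ.2 g
  have hcon : ∀ η ∈ O, classInner (fun n : N => (χ : G → ℂ) n) η ≠ 0 := fun η hη => by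
    obtain ⟨g, rfl⟩ := (mem_orbit N).mp hη
    rw [← conjBy_restrict N (isClassFunction_irr χ) g, classInner_conjBy]
    exact hφ
  have hmap : ∀ η ∈ O, (fun n => conj (η n)) ∈ O := fun η hη => by
    refine (mem_orbit N).mpr (exists_conjBy_of_constituents N χ.2 φ.2
      (isIrrCharacter_conj (hirr η hη)) hφ fun h0 => hcon η hη ?_)
    have h1 : classInner (fun n : N => (χ : G → ℂ) n) (fun n => conj (η n)) =
        conj (classInner (fun n : N => (χ : G → ℂ) n) η) := by
      simp only [classInner, map_mul, map_sum, map_inv₀, map_natCast]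
      congr 1
      exact Finset.sum_congr rfl fun n _ => by rw [hχ (n : G)]
    rw [h1, map_eq_zero] at h0
    exact h0
  by_contra hno
  push_neg at hno
  have hzero : ∑ _η ∈ O, (1 : ZMod 2) = 0 :=
    Finset.sum_involution (fun η _ n => conj (η n)) (fun η _ => CharTwo.add_self_eq_zero _)
      (fun η hη _ he => hcon η hη (hno ⟨η, hirr η hη⟩ fun x => congrFun he x))
      hmap (fun η _ => funext fun n => Complex.conj_conj _)
  rw [Finset.sum_const, nsmul_one, ZMod.natCast_eq_zero_iff, hO, card_orbit_eq_index] at hzero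
  exact (Nat.not_even_iff_odd.mpr
    (hodd.of_dvd_nat (Subgroup.index_dvd_of_le (le_inertia N (isClassFunction_irr φ)))))
    (even_iff_two_dvd.mpr hzero)

end OddIndex

section Normalizer

variable {p : ℕ} [Fact p.Prime] [Fintype G]

/-- Two conjugates of the Sylow subgroup inside a subgroup differ there by an element of it. -/
theorem exists_normalizer_translate {T : Subgroup G} (P : Sylow p G)
    (hP : (P : Subgroup G) ≤ T) (g : G) (hg : ∀ u ∈ (P : Subgroup G), g * u * g⁻¹ ∈ T) :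
    ∃ s ∈ T, s * g ∈ Subgroup.normalizer ((P : Subgroup G) : Set G) := by
  have hgP : ((g • P : Sylow p G) : Subgroup G) ≤ T := by
    rintro _ ⟨u, hu, rfl⟩
    exact hg u hu
  obtain ⟨s, hs⟩ := MulAction.exists_smul_eq T ((g • P).subtype hgP) (P.subtype hP)
  rw [Sylow.smul_subtype] at hs
  have h1 := Sylow.subtype_injective hs
  rw [Subgroup.smul_def, smul_smul] at h1
  exact ⟨s, s.2, Sylow.smul_eq_iff_mem_normalizer.mp h1⟩

/-- The index of a subgroup containing a Sylow subgroup and that of its trace on the normalizer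
agree modulo `p`. -/
theorem index_congr_normalizer {T : Subgroup G} (P : Sylow p G) (hP : (P : Subgroup G) ≤ T) :
    ((T.relIndex (Subgroup.normalizer ((P : Subgroup G) : Set G)) : ℕ) : ZMod p) =
      (T.index : ZMod p) := by
  set Nn := Subgroup.normalizer ((P : Subgroup G) : Set G) with hNn
  have h1 : T.relIndex Nn * Nn.index = Nn.relIndex T * T.index := by
    rw [← Subgroup.inf_relIndex_right T Nn, Subgroup.relIndex_mul_index inf_le_right, inf_comm,
      ← Subgroup.inf_relIndex_right Nn T, Subgroup.relIndex_mul_index inf_le_right]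
  have h2 : (Nn.index : ZMod p) = 1 := by
    rw [show Nn.index = Nat.card (Sylow p G) from P.card_eq_index_normalizer.symm, ← Nat.cast_one,
      ZMod.natCast_eq_natCast_iff]
    exact card_sylow_modEq_one p G
  have h3 : (Nn.relIndex T : ZMod p) = 1 := by
    have e : Nn.subgroupOf T =
        Subgroup.normalizer (((P.subtype hP : Sylow p T) : Subgroup T) : Set T) :=
      Subgroup.subgroupOf_normalizer_eq hP
    rw [Subgroup.relIndex, e, show (Subgroup.normalizer (((P.subtype hP : Sylow p T) : Subgroup T) :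
      Set T)).index = Nat.card (Sylow p T) from (P.subtype hP).card_eq_index_normalizer.symm,
      ← Nat.cast_one,
      ZMod.natCast_eq_natCast_iff]
    exact card_sylow_modEq_one p T
  have h4 := congrArg (Nat.cast : ℕ → ZMod p) h1
  rwa [Nat.cast_mul, Nat.cast_mul, h2, h3, mul_one, one_mul] at h4

/-- The bijection. -/
theorem exists_real_bijection (hsolv : Group.IsSolvable ↥(elemGen p G)) (hreal : RealPrime p G)
    (P : Sylow p G) :
    ∃ f : {χ : IrrCharacter G // ∀ g : G, ((χ : G → ℂ) g).im = 0} →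
        {ξ : IrrCharacter ↥(Subgroup.normalizer ((P : Subgroup G) : Set G)) //
          (∀ n, ((ξ : ↥(Subgroup.normalizer ((P : Subgroup G) : Set G)) → ℂ) n).im = 0) ∧
          ¬ p ∣ charDegree (ξ : ↥(Subgroup.normalizer ((P : Subgroup G) : Set G)) → ℂ)},
      Function.Bijective f ∧ ∀ χ,
        ((charDegree ((f χ).1 : ↥(Subgroup.normalizer ((P : Subgroup G) : Set G)) → ℂ) : ZMod p) =
          (charDegree (χ.1 : G → ℂ) : ZMod p) ∨
        (charDegree ((f χ).1 : ↥(Subgroup.normalizer ((P : Subgroup G) : Set G)) → ℂ) : ZMod p) =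
          -(charDegree (χ.1 : G → ℂ) : ZMod p)) := by
  classical
  have hp : p.Prime := Fact.out
  haveI := elemGen_normal 2 G
  set K := elemGen 2 G with hKdef
  haveI : Fintype K := Fintype.ofFinite K
  have hKodd : Odd K.index := odd_index_elemGen G
  obtain ⟨R, hRn, hRK, hR, hRi⟩ := exists_normal_sylow p (Nat.card G) le_rfl hsolv hreal K
    inferInstance le_rfl ⟨0, by simp [hKdef]⟩
  haveI := hRn
  set Nn := Subgroup.normalizer ((P : Subgroup G) : Set G) with hNn
  haveI : Fintype Nn := Fintype.ofFinite Nn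
  set C := K ⊓ Nn with hC
  have hCK : C ≤ K := inf_le_left
  have hCN : C ≤ Nn := inf_le_right
  haveI : Fintype C := Fintype.ofFinite C
  have hRP : R ≤ (P : Subgroup G) := by
    have h1 : R ⊔ (P : Subgroup G) = (P : Subgroup G) :=
      P.is_maximal' (hR.to_sup_of_normal_left P.isPGroup') le_sup_right
    exact h1 ▸ le_sup_left
  have hPK : ∀ y ∈ (P : Subgroup G), y ∈ K → y ∈ R := by
    intro y hy hyK
    have h1 : IsPGroup p ↥(R ⊔ ((P : Subgroup G) ⊓ K)) :=
      hR.to_sup_of_normal_left (P.isPGroup'.to_le inf_le_left)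
    have h2 : (R ⊔ ((P : Subgroup G) ⊓ K)) = R := by
      refine le_antisymm ?_ le_sup_left
      rw [← Subgroup.relIndex_eq_one]
      obtain ⟨a, ha⟩ := IsPGroup.iff_card.mp h1
      refine Nat.eq_one_of_dvd_coprimes ((hp.coprime_iff_not_dvd.mpr hRi).pow_left a)
        (ha ▸ Subgroup.index_dvd_card _) ?_
      exact Dvd.intro _ (Subgroup.relIndex_mul_relIndex R _ K le_sup_left
        (sup_le hRK inf_le_right))
    exact h2 ▸ Subgroup.mem_sup_right (Subgroup.mem_inf.mpr ⟨hy, hyK⟩)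
  have hCiff : ∀ k : G, k ∈ C ↔ (k ∈ K ∧ ∀ x ∈ (P : Subgroup G), x * k * x⁻¹ * k⁻¹ ∈ R) := by
    intro k
    constructor
    · intro hk
      refine ⟨hk.1, fun x hx => hPK _ ?_ (mul_mem
        ((inferInstance : K.Normal).conj_mem k hk.1 x) (inv_mem hk.1))⟩
      rw [show x * k * x⁻¹ * k⁻¹ = x * (k * x⁻¹ * k⁻¹) by group]
      exact mul_mem hx ((Subgroup.mem_normalizer_iff.mp hk.2 x⁻¹).mp (inv_mem hx))
    · rintro ⟨hk, h⟩
      refine Subgroup.mem_inf.mpr ⟨hk, ?_⟩
      have key : ∀ x ∈ (P : Subgroup G), k * x * k⁻¹ ∈ (P : Subgroup G) := fun x hx => by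
        have h1 := hRP (h x⁻¹ (inv_mem hx))
        rw [inv_inv] at h1
        have h2 := mul_mem hx h1
        rwa [show x * (x⁻¹ * k * x * k⁻¹) = k * x * k⁻¹ by group] at h2
      have hb : Function.Bijective
          fun u : (P : Subgroup G) => (⟨k * (u : G) * k⁻¹, key u u.2⟩ : (P : Subgroup G)) :=
        Finite.injective_iff_bijective.mp fun a b h => by simpa using congrArg Subtype.val h
      refine Subgroup.mem_normalizer_iff.mpr fun u => ⟨key u, fun hu => ?_⟩
      obtain ⟨w, hw⟩ := hb.2 ⟨_, hu⟩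
      have e : (w : G) = u := by simpa using congrArg Subtype.val hw
      exact e ▸ w.2
  -- the correspondence on invariant characters
  obtain ⟨F, hF, hFp⟩ := Cfsg.Agent.S4914.result p (P : Subgroup G) K R C P.isPGroup'
    (fun x _ => Subgroup.mem_normalizer_iff.mpr fun y =>
      ⟨fun hy => (inferInstance : K.Normal).conj_mem y hy x, fun hy => by
        simpa [mul_assoc] using (inferInstance : K.Normal).conj_mem _ hy x⁻¹⟩)
    hRK (fun k _ q hq => hRn.conj_mem q hq k) (IsPGroup.iff_card.mp hR) hRi hCK hCiff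
  let InvK : IrrCharacter K → Prop := fun θ => ∀ x ∈ (P : Subgroup G), ∀ k k' : K,
    (k' : G) = x * (k : G) * x⁻¹ → (θ : K → ℂ) k' = (θ : K → ℂ) k
  let InvC : IrrCharacter C → Prop := fun ξ => ∀ x ∈ (P : Subgroup G), ∀ k k' : C,
    (k' : G) = x * (k : G) * x⁻¹ → (ξ : C → ℂ) k' = (ξ : C → ℂ) k
  have hchar : ∀ (θ : {θ : IrrCharacter K // InvK θ}) (ξ : {ξ : IrrCharacter C // InvC ξ}) (m : ℕ),
      classInner (fun c : C => (θ.1 : K → ℂ) (Subgroup.inclusion hCK c)) (ξ.1 : C → ℂ) = m →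
      (ξ = F θ ↔ ¬ p ∣ m) := by
    intro θ ξ m hm
    obtain ⟨m', hm', h1, h2⟩ := (hFp θ).1 ξ
    rw [finsum_eq_sum_of_fintype] at hm'
    have e : m' = m := by
      have h3 : classInner (fun c : C => (θ.1 : K → ℂ) (Subgroup.inclusion hCK c))
          (ξ.1 : C → ℂ) = (m' : ℂ) := hm'
      exact Nat.cast_injective (h3.symm.trans hm)
    subst e
    refine ⟨fun h hd => ?_, fun h => by_contra fun hne => h (h2 hne)⟩
    have h0 : (m' : ZMod p) = 0 := (ZMod.natCast_eq_zero_iff _ _).mpr hd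
    rcases h1 h with h4 | h4 <;> rw [h0] at h4
    · exact zero_ne_one h4
    · exact neg_ne_zero.mpr one_ne_zero h4.symm
  -- equivariance under the normalizer
  have hnormC : ∀ n ∈ Nn, ∀ c ∈ C, n * c * n⁻¹ ∈ C := fun n hn c hc =>
    Subgroup.mem_inf.mpr ⟨(inferInstance : K.Normal).conj_mem c hc.1 n,
      Nn.mul_mem (Nn.mul_mem hn hc.2) (Nn.inv_mem hn)⟩
  let cC : ∀ (n : G), n ∈ Nn → C ≃* C := fun n hn =>
    { toFun := fun c => ⟨n * c * n⁻¹, hnormC n hn c c.2⟩
      invFun := fun c => ⟨n⁻¹ * c * n, by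
        simpa using hnormC n⁻¹ (Nn.inv_mem hn) c c.2⟩
      left_inv := fun c => Subtype.ext (by simp [mul_assoc])
      right_inv := fun c => Subtype.ext (by simp [mul_assoc])
      map_mul' := fun a b => Subtype.ext (by simp [mul_assoc]) }
  let conjK : G → IrrCharacter K → IrrCharacter K := fun n θ =>
    ⟨CfsgLib.Char.conjBy K (θ : K → ℂ) n, isIrrCharacter_conjBy K θ.2 n⟩
  let conjC : ∀ (n : G), n ∈ Nn → IrrCharacter C → IrrCharacter C := fun n hn ξ =>
    ⟨fun c => (ξ : C → ℂ) (cC n hn c), isIrrCharacter_comp_mulEquiv _ ξ.2⟩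
  have hnP : ∀ n ∈ Nn, ∀ x ∈ (P : Subgroup G), n * x * n⁻¹ ∈ (P : Subgroup G) :=
    fun n hn x hx => (Subgroup.mem_normalizer_iff.mp hn x).mp hx
  have hInvK : ∀ n ∈ Nn, ∀ θ, InvK θ → InvK (conjK n θ) := by
    intro n hn θ hθ x hx k k' e
    exact hθ (n * x * n⁻¹) (hnP n hn x hx) ⟨n * k * n⁻¹, (inferInstance : K.Normal).conj_mem _ k.2 n⟩
      ⟨n * k' * n⁻¹, (inferInstance : K.Normal).conj_mem _ k'.2 n⟩
      (by show n * (k' : G) * n⁻¹ = _; rw [e]; group)
  have hInvC : ∀ n (hn : n ∈ Nn), ∀ ξ, InvC ξ → InvC (conjC n hn ξ) := by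
    intro n hn ξ hξ x hx k k' e
    exact hξ (n * x * n⁻¹) (hnP n hn x hx) (cC n hn k) (cC n hn k')
      (by show n * (k' : G) * n⁻¹ = n * x * n⁻¹ * (n * (k : G) * n⁻¹) * (n * x * n⁻¹)⁻¹
          rw [e]; group)
  have hmult : ∀ (θ : {θ : IrrCharacter K // InvK θ}) (ξ : {ξ : IrrCharacter C // InvC ξ}),
      ∃ m : ℕ, classInner (fun c : C => (θ.1 : K → ℂ) (Subgroup.inclusion hCK c))
        (ξ.1 : C → ℂ) = m := fun θ ξ =>
    exists_nat_classInner (isCharacter_comp (Subgroup.inclusion hCK) (isCharacter_of_isIrr θ.1.2))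
      (isCharacter_of_isIrr ξ.1.2)
  have hFconj : ∀ n (hn : n ∈ Nn) (θ : {θ : IrrCharacter K // InvK θ}),
      (F ⟨conjK n θ.1, hInvK n hn θ.1 θ.2⟩).1 = conjC n hn (F θ).1 := by
    intro n hn θ
    obtain ⟨m, hm⟩ := hmult θ (F θ)
    have h1 := (hchar ⟨conjK n θ.1, hInvK n hn θ.1 θ.2⟩
      ⟨conjC n hn (F θ).1, hInvC n hn _ (F θ).2⟩ m ?_).mpr ((hchar θ (F θ) m hm).mp rfl)
    · exact (congrArg Subtype.val h1).symm
    · rw [← hm]
      refine Eq.trans ?_ (classInner_comp_mulEquiv (cC n hn)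
        (fun c : C => (θ.1 : K → ℂ) (Subgroup.inclusion hCK c)) ((F θ).1 : C → ℂ))
      rfl
  -- and under complex conjugation
  let barK : IrrCharacter K → IrrCharacter K := fun θ =>
    ⟨fun k => conj ((θ : K → ℂ) k), isIrrCharacter_conj θ.2⟩
  let barC : IrrCharacter C → IrrCharacter C := fun ξ =>
    ⟨fun k => conj ((ξ : C → ℂ) k), isIrrCharacter_conj ξ.2⟩
  have hbarK : ∀ θ, InvK θ → InvK (barK θ) := fun θ h x hx k k' e =>
    congrArg (conj : ℂ → ℂ) (h x hx k k' e)
  have hbarC : ∀ ξ, InvC ξ → InvC (barC ξ) := fun ξ h x hx k k' e =>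
    congrArg (conj : ℂ → ℂ) (h x hx k k' e)
  have hFbar : ∀ θ : {θ : IrrCharacter K // InvK θ},
      (F ⟨barK θ.1, hbarK θ.1 θ.2⟩).1 = barC (F θ).1 := by
    intro θ
    obtain ⟨m, hm⟩ := hmult θ (F θ)
    have h1 := (hchar ⟨barK θ.1, hbarK θ.1 θ.2⟩ ⟨barC (F θ).1, hbarC _ (F θ).2⟩ m ?_).mpr
      ((hchar θ (F θ) m hm).mp rfl)
    · exact (congrArg Subtype.val h1).symm
    · rw [show (m : ℂ) = conj (m : ℂ) from (map_natCast _ m).symm, ← hm]
      simp only [classInner, map_mul, map_sum, map_inv₀, map_natCast, barK, barC]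
  have hFreal : ∀ θ : {θ : IrrCharacter K // InvK θ},
      IsReal (θ.1 : K → ℂ) ↔ IsReal ((F θ).1 : C → ℂ) := by
    intro θ
    constructor
    · intro h
      have e : (⟨barK θ.1, hbarK θ.1 θ.2⟩ : {θ : IrrCharacter K // InvK θ}) = θ :=
        Subtype.ext (Subtype.ext (funext h))
      have h1 := hFbar θ
      rw [e] at h1
      exact fun c => (congrFun (congrArg Subtype.val h1) c).symm
    · intro h
      have h1 : F ⟨barK θ.1, hbarK θ.1 θ.2⟩ = F θ :=
        Subtype.ext ((hFbar θ).trans (Subtype.ext (funext h)))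
      exact fun k => congrFun (congrArg (fun z : {θ : IrrCharacter K // InvK θ} => (z.1 : K → ℂ))
        (hF.1 h1)) k
  -- the normal subgroup of the normalizer
  set C₀ := C.subgroupOf Nn with hC₀
  haveI : C₀.Normal := ⟨fun x hx g => hnormC g g.2 x hx⟩
  haveI : Fintype C₀ := Fintype.ofFinite C₀
  have hC₀odd : Odd C₀.index := by
    refine hKodd.of_dvd_nat ?_
    show C.relIndex Nn ∣ K.index
    rw [hC, Subgroup.inf_relIndex_right]
    exact Subgroup.relIndex_dvd_index_of_normal K Nn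
  let e₀ : C₀ ≃* C := Subgroup.subgroupOfEquivOfLe hCN
  let pull : IrrCharacter C → IrrCharacter C₀ := fun ξ =>
    ⟨fun x => (ξ : C → ℂ) (e₀ x), isIrrCharacter_comp_mulEquiv e₀ ξ.2⟩
  have hpull_inj : Function.Injective pull := fun a b h => Subtype.ext (funext fun c => by
    simpa [pull] using congrFun (congrArg Subtype.val h) (e₀.symm c))
  have hpull_conj : ∀ (n : Nn) (ξ : IrrCharacter C),
      CfsgLib.Char.conjBy C₀ (pull ξ : C₀ → ℂ) n = (pull (conjC n n.2 ξ) : C₀ → ℂ) := fun n ξ =>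
    funext fun x => congrArg (ξ : C → ℂ) (Subtype.ext rfl)
  -- invariant real characters below a real character of `G`
  have hstabP : ∀ θ : IrrCharacter K, InvK θ ↔ (P : Subgroup G) ≤ inertia K (θ : K → ℂ) := by
    intro θ
    constructor
    · intro h x hx
      exact (mem_inertia_iff K).mpr fun k => h x hx k _ rfl
    · intro h x hx k k' e
      rw [← (mem_inertia_iff K).mp (h hx) k]
      exact congrArg (θ : K → ℂ) (Subtype.ext e)
  have hbelow : ∀ χ : {χ : IrrCharacter G // ∀ g : G, ((χ : G → ℂ) g).im = 0},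
      ∃ θ : {θ : IrrCharacter K // InvK θ}, IsReal (θ.1 : K → ℂ) ∧
        classInner (fun k : K => (χ.1 : G → ℂ) k) (θ.1 : K → ℂ) ≠ 0 := by
    intro χ
    obtain ⟨θ, hθr, hθ⟩ := exists_real_constituent hKodd χ.1 ((isReal_iff_im _).mpr χ.2)
    obtain ⟨c, hc⟩ := exists_conj_sylow_mem
      (not_dvd_index_of_constituent hreal χ.2 θ.2 hθ) P
    refine ⟨⟨conjK c θ, (hstabP _).mpr fun u hu => ?_⟩, fun k => hθr _, ?_⟩
    · rw [mem_inertia]
      show CfsgLib.Char.conjBy K (CfsgLib.Char.conjBy K (θ : K → ℂ) c) u = _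
      rw [← conjBy_mul, show c * u = (c * u * c⁻¹) * c by group, conjBy_mul,
        (mem_inertia K).mp (hc u hu)]
    · show classInner _ (CfsgLib.Char.conjBy K (θ : K → ℂ) c) ≠ 0
      rw [← conjBy_restrict K (isClassFunction_irr χ.1) c, classInner_conjBy]
      exact hθ
  choose θf hθr hθc using hbelow
  have hrealC : ∀ χ, IsReal (pull (F (θf χ)).1 : C₀ → ℂ) := fun χ x =>
    (hFreal (θf χ)).mp (hθr χ) (e₀ x)
  choose ηf hηf huniq using fun χ => exists_unique_real hC₀odd (pull (F (θf χ)).1) (hrealC χ)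
  -- degrees
  have hdeg : ∀ χ, ((charDegree (ηf χ : Nn → ℂ) : ZMod p) = (charDegree (χ.1 : G → ℂ) : ZMod p) ∨
      (charDegree (ηf χ : Nn → ℂ) : ZMod p) = -(charDegree (χ.1 : G → ℂ) : ZMod p)) ∧
      ¬ p ∣ charDegree (ηf χ : Nn → ℂ) := by
    intro χ
    set θ := θf χ with hθdef
    obtain ⟨d, hd⟩ := exists_nat_degree (isCharacter_of_isIrr θ.1.2)
    obtain ⟨d', hd'⟩ := exists_nat_degree (isCharacter_of_isIrr (F θ).1.2)
    have hFd := (hFp θ).2
    rw [charDegree_of_eq hd, charDegree_of_eq hd'] at hFd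
    set T := inertia K (θ.1 : K → ℂ) with hTdef
    have hinert : inertia C₀ (pull (F θ).1 : C₀ → ℂ) = T.subgroupOf Nn := by
      ext n
      rw [mem_inertia, hpull_conj, Subgroup.mem_subgroupOf, hTdef, mem_inertia, ← hFconj n n.2 θ]
      constructor
      · intro h
        have h1 := hF.1 (Subtype.ext (hpull_inj (Subtype.ext h)))
        exact congrArg (fun z : {θ : IrrCharacter K // InvK θ} => (z.1 : K → ℂ)) h1
      · intro h
        have h1 : (⟨conjK n θ.1, hInvK n n.2 θ.1 θ.2⟩ : {θ : IrrCharacter K // InvK θ}) = θ :=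
          Subtype.ext (Subtype.ext h)
        rw [h1]
    have hχ1 : (χ.1 : G → ℂ) 1 = ((T.index * d : ℕ) : ℂ) := by
      rw [real_degree hKodd θ.1 (hθr χ) χ.1 (hθc χ) ((isReal_iff_im _).mpr χ.2), hd,
        Nat.cast_mul]
    have hη1 : (ηf χ : Nn → ℂ) 1 = ((T.relIndex Nn * d' : ℕ) : ℂ) := by
      rw [real_degree hC₀odd (pull (F θ).1) (hrealC χ) (ηf χ) (hηf χ).1 (hηf χ).2, hinert,
        Nat.cast_mul, ← hd']
      congr 1
    have hidx := index_congr_normalizer P ((hstabP _).mp θ.2)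
    have hkey : ((T.relIndex Nn * d' : ℕ) : ZMod p) = ((T.index * d : ℕ) : ZMod p) ∨
        ((T.relIndex Nn * d' : ℕ) : ZMod p) = -((T.index * d : ℕ) : ZMod p) := by
      rw [Nat.cast_mul, Nat.cast_mul, hidx]
      rcases hFd with h | h
      · left; rw [h]
      · right; rw [h, mul_neg]
    rw [charDegree_of_eq hη1, charDegree_of_eq hχ1]
    refine ⟨hkey, fun hdv => hreal χ.1 χ.2 ?_⟩
    rw [charDegree_of_eq hχ1, ← ZMod.natCast_eq_zero_iff]
    rw [← ZMod.natCast_eq_zero_iff] at hdv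
    rcases hkey with h | h
    · rw [← h, hdv]
    · rw [hdv, eq_comm, neg_eq_zero] at h; exact h
  refine ⟨fun χ => ⟨ηf χ, (isReal_iff_im _).mp (hηf χ).2, (hdeg χ).2⟩, ⟨?_, ?_⟩,
    fun χ => (hdeg χ).1⟩
  · intro χ χ' h
    have h0 : ηf χ = ηf χ' := congrArg Subtype.val h
    obtain ⟨n, hn⟩ := exists_conjBy_of_constituents C₀ (ηf χ).2 (pull (F (θf χ)).1).2
      (pull (F (θf χ')).1).2 (hηf χ).1 (h0.symm ▸ (hηf χ').1)
    rw [hpull_conj, ← hFconj n n.2] at hn
    have h2 := congrArg (fun z : {θ : IrrCharacter K // InvK θ} => (z.1 : K → ℂ))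
      (hF.1 (Subtype.ext (hpull_inj (Subtype.ext hn))))
    refine Subtype.ext (eq_of_real_over hKodd (θf χ').1 (hθr χ') ?_ ((isReal_iff_im _).mpr χ.2)
      (hθc χ') ((isReal_iff_im _).mpr χ'.2))
    rw [← h2]
    show classInner _ (CfsgLib.Char.conjBy K ((θf χ).1 : K → ℂ) n) ≠ 0
    rw [← conjBy_restrict K (isClassFunction_irr χ.1) (n : G), classInner_conjBy]
    exact hθc χ
  · rintro ⟨η, hηim, hηd⟩
    have hηr : IsReal (η : Nn → ℂ) := (isReal_iff_im _).mpr hηim
    obtain ⟨ξ₀, hξ₀r, hξ₀⟩ := exists_real_constituent hC₀odd η hηr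
    let ξ : IrrCharacter C :=
      ⟨fun c => (ξ₀ : C₀ → ℂ) (e₀.symm c), isIrrCharacter_comp_mulEquiv e₀.symm ξ₀.2⟩
    have hpullξ : pull ξ = ξ₀ := Subtype.ext (funext fun x => by simp [pull, ξ])
    have hξP : InvC ξ := by
      have hidx : ¬ p ∣ (inertia C₀ (ξ₀ : C₀ → ℂ)).index := by
        obtain ⟨a, ha⟩ := exists_nat_classInner
          (isCharacter_restrict C₀ (isCharacter_of_isIrr η.2)) (isCharacter_of_isIrr ξ₀.2)
        obtain ⟨b, hb⟩ := exists_nat_degree (isCharacter_of_isIrr ξ₀.2)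
        have h1 := clifford_degree C₀ η.2 ξ₀.2 hξ₀
        rw [ha, hb, card_orbit_eq_index] at h1
        intro hdv
        refine hηd ?_
        rw [charDegree_of_eq (d := a * ((inertia C₀ (ξ₀ : C₀ → ℂ)).index * b))
          (by rw [h1]; push_cast; ring)]
        exact (hdv.mul_right b).mul_left a
      have hPN : (P : Subgroup G) ≤ Nn := Subgroup.le_normalizer
      obtain ⟨c, hc⟩ := exists_conj_sylow_mem hidx (P.subtype hPN)
      intro x hx k k' e
      have hx' : (c : G)⁻¹ * x * c ∈ (P : Subgroup G) := by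
        simpa using hnP _ (Nn.inv_mem c.2) x hx
      have h1 := (mem_inertia_iff C₀).mp (hc ⟨_, hPN hx'⟩ hx') (e₀.symm k)
      show (ξ₀ : C₀ → ℂ) (e₀.symm k') = (ξ₀ : C₀ → ℂ) (e₀.symm k)
      refine Eq.trans (congrArg (ξ₀ : C₀ → ℂ) (Subtype.ext (Subtype.ext ?_))) h1
      show (k' : G) = (c : G) * ((c : G)⁻¹ * x * c) * (c : G)⁻¹ * (k : G) *
        ((c : G) * ((c : G)⁻¹ * x * c) * (c : G)⁻¹)⁻¹
      rw [e]
      group
    obtain ⟨θ, hθ⟩ := hF.2 ⟨ξ, hξP⟩
    have hθreal : IsReal (θ.1 : K → ℂ) :=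
      (hFreal θ).mpr (hθ ▸ fun c => hξ₀r (e₀.symm c))
    obtain ⟨χ, ⟨hχc, hχr⟩, -⟩ := exists_unique_real hKodd θ.1 hθreal
    let χ' : {χ : IrrCharacter G // ∀ g : G, ((χ : G → ℂ) g).im = 0} :=
      ⟨χ, (isReal_iff_im _).mp hχr⟩
    refine ⟨χ', Subtype.ext ?_⟩
    obtain ⟨g, hg⟩ := exists_conjBy_of_constituents K χ.2 θ.1.2 (θf χ').1.2 hχc (hθc χ')
    have hT1 := (hstabP _).mp θ.2
    obtain ⟨s, hs, hsg⟩ := exists_normalizer_translate (T := inertia K (θ.1 : K → ℂ)) P hT1 g
      fun u hu => by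
        rw [mem_inertia, show g * u * g⁻¹ = g * (u * g⁻¹) by group, conjBy_mul, hg, conjBy_mul,
          (mem_inertia K).mp ((hstabP _).mp (θf χ').2 hu), ← hg, ← conjBy_mul, mul_inv_cancel,
          conjBy_one]
    have h3 : (⟨conjK (s * g) θ.1, hInvK _ hsg θ.1 θ.2⟩ : {θ : IrrCharacter K // InvK θ}) = θf χ' :=
      Subtype.ext (Subtype.ext (by
        show CfsgLib.Char.conjBy K (θ.1 : K → ℂ) (s * g) = _
        rw [conjBy_mul, (mem_inertia K).mp hs, hg]))
    refine (huniq χ' η ⟨?_, hηr⟩).symm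
    rw [← h3, hFconj (s * g) hsg θ, hθ, ← hpull_conj ⟨s * g, hsg⟩ ξ, hpullξ,
      ← conjBy_restrict C₀ (isClassFunction_irr η) ⟨s * g, hsg⟩, classInner_conjBy]
    exact hξ₀

end Normalizer

end CfsgLib.RealDegree
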