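import Cfsg.Agent.Lib.RealDegree.Main
import Cfsg.Agent.Lib.Char.OddIndexFixed

/-!
# Real classes when the real characters have degree prime to `p`

The real characters and the real classes of the subgroup generated by the `2`-elements have equal
permutation characters, so their stabilizers have index prime to `p` together.
-/

set_option autoImplicit false
set_option linter.unusedSectionVars false
set_option linter.style.haveILetI false

namespace CfsgLib.RealDegree

open Cfsg CfsgLib.Char CfsgLib.Char.OddFixed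
open scoped ComplexConjugate CfsgLib.Char Pointwise

/-- Orbit counts agree for actions with equally many fixed points. -/
theorem card_orbits_congr {L : Type*} [Group L] [Finite L] {α β : Type*} [MulAction L α]
    [MulAction L β] [Finite α] [Finite β]
    (hfix : ∀ g : L, Nat.card (MulAction.fixedBy α g) = Nat.card (MulAction.fixedBy β g)) :
    Nat.card (MulAction.orbitRel.Quotient L α) = Nat.card (MulAction.orbitRel.Quotient L β) := by
  classical
  haveI := Fintype.ofFinite L
  haveI := Fintype.ofFinite α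
  haveI := Fintype.ofFinite β
  have hB := MulAction.sum_card_fixedBy_eq_card_orbits_mul_card_group L α
  have hB' := MulAction.sum_card_fixedBy_eq_card_orbits_mul_card_group L β
  rw [Finset.sum_congr rfl fun g _ => show Fintype.card (MulAction.fixedBy α g) =
      Fintype.card (MulAction.fixedBy β g) by
    rw [← Nat.card_eq_fintype_card, ← Nat.card_eq_fintype_card]; exact hfix g, hB'] at hB
  rw [Nat.card_eq_fintype_card, Nat.card_eq_fintype_card]
  exact (Nat.eq_of_mul_eq_mul_right Fintype.card_pos hB).symm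

theorem stabilizer_index_subgroup {G γ : Type*} [Group G] [MulAction G γ] (L : Subgroup G) (c : γ) :
    (MulAction.stabilizer L c).index = (MulAction.stabilizer G c).relIndex L := rfl

/-- Stabilizers of index prime to `p` are passed between actions with equally many fixed points,
if the `p`-elements generate a solvable subgroup. -/
theorem transfer_stab.{u, v, w} (p : ℕ) [Fact p.Prime] (n : ℕ) :
    ∀ {G : Type u} [Group G] [Finite G], Nat.card G ≤ n → Group.IsSolvable ↥(elemGen p G) →
      ∀ {α : Type v} {β : Type w} [MulAction G α] [MulAction G β] [Finite α] [Finite β],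
      (∀ g : G, Nat.card (MulAction.fixedBy α g) = Nat.card (MulAction.fixedBy β g)) →
      (∀ a : α, ¬ p ∣ (MulAction.stabilizer G a).index) →
      ∀ b : β, ¬ p ∣ (MulAction.stabilizer G b).index := by
  classical
  induction n with
  | zero => intro G _ _ hn; exact absurd hn Nat.card_pos.not_ge
  | succ n ih =>
  intro G _ _ hn hsolv α β _ _ _ _ hfix hα
  have hp : p.Prime := Fact.out
  by_cases htriv : Nat.card G = 1
  · intro b h
    exact hp.not_dvd_one (htriv ▸ h.trans (Subgroup.index_dvd_card _))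
  -- a normal subgroup of index prime to `p` or equal to `p`
  obtain ⟨L, hLn, hLt, hLi⟩ : ∃ L : Subgroup G, L.Normal ∧ L ≠ ⊤ ∧
      (¬ p ∣ L.index ∨ L.index = p) := by
    by_cases htop : elemGen p G = ⊤
    · rw [htop] at hsolv
      haveI : Group.IsSolvable G :=
        solvable_of_surjective (f := (Subgroup.topEquiv (G := G)).toMonoidHom)
          (Subgroup.topEquiv (G := G)).surjective
      haveI : Nontrivial G := Finite.one_lt_card_iff_nontrivial.mp (by
        have : 0 < Nat.card G := Nat.card_pos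
        omega)
      obtain ⟨L, hL, hcL⟩ := (eq_top_or_exists_le_coatom (commutator G)).resolve_left
        (IsSolvable.commutator_lt_top_of_nontrivial G).ne
      have hLn : L.Normal := ⟨fun x hx g => by
        have h1 : g * x * g⁻¹ * x⁻¹ ∈ L :=
          hcL (Subgroup.commutator_mem_commutator (Subgroup.mem_top g) (Subgroup.mem_top x))
        have h2 := mul_mem h1 hx
        rwa [inv_mul_cancel_right] at h2⟩
      haveI := hLn
      have hsimple : ∀ y : G ⧸ L, Subgroup.zpowers y = ⊥ ∨ Subgroup.zpowers y = ⊤ := by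
        intro y
        have hle : L ≤ (Subgroup.zpowers y).comap (QuotientGroup.mk' L) := fun z hz => by
          show (z : G ⧸ L) ∈ Subgroup.zpowers y
          rw [(QuotientGroup.eq_one_iff z).mpr hz]; exact one_mem _
        rcases hle.lt_or_eq with hlt | heq
        · right
          rw [← Subgroup.map_comap_eq_self_of_surjective (QuotientGroup.mk'_surjective L)
            (Subgroup.zpowers y), hL.2 _ hlt, Subgroup.map_top_of_surjective _
            (QuotientGroup.mk'_surjective L)]
        · left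
          rw [← Subgroup.map_comap_eq_self_of_surjective (QuotientGroup.mk'_surjective L)
            (Subgroup.zpowers y), ← heq, QuotientGroup.map_mk'_self]
      have hpr : L.index.Prime := by
        have h1 : 1 < L.index := by
          have := Subgroup.index_ne_zero_of_finite (H := L)
          have h2 : L.index ≠ 1 := fun h => hL.1 (Subgroup.index_eq_one.mp h)
          omega
        haveI : Nontrivial (G ⧸ L) := Finite.one_lt_card_iff_nontrivial.mp h1
        obtain ⟨r, hr, hrd⟩ := Nat.exists_prime_and_dvd h1.ne'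
        haveI := Fact.mk hr
        obtain ⟨y, hy⟩ := exists_prime_orderOf_dvd_card' (G := G ⧸ L) r hrd
        rcases hsimple y with h | h
        · rw [Subgroup.zpowers_eq_bot] at h
          rw [h, orderOf_one] at hy
          exact absurd hy.symm hr.one_lt.ne'
        · have e : L.index = r := by
            rw [Subgroup.index, ← Subgroup.card_top, ← h, Nat.card_zpowers, hy]
          exact e ▸ hr
      refine ⟨L, hLn, hL.1, ?_⟩
      by_cases h : p ∣ L.index
      · exact Or.inr ((Nat.prime_dvd_prime_iff_eq hp hpr).mp h).symm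
      · exact Or.inl h
    · haveI := elemGen_normal p G
      refine ⟨_, elemGen_normal p G, htop, Or.inl fun h => ?_⟩
      obtain ⟨y, hy⟩ := exists_prime_orderOf_dvd_card' (G := G ⧸ elemGen p G) p h
      have hy' : y ∈ elemGen p (G ⧸ elemGen p G) :=
        Subgroup.subset_closure ⟨1, by rw [hy, pow_one]⟩
      rw [← map_elemGen p (QuotientGroup.mk' (elemGen p G)) (QuotientGroup.mk'_surjective _),
        QuotientGroup.map_mk'_self, Subgroup.mem_bot] at hy'
      rw [hy', orderOf_one] at hy
      exact hp.one_lt.ne hy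
  haveI := hLn
  have hcard : Nat.card L ≤ n := by
    have h1 := L.card_mul_index
    have h2 : 1 < L.index := by
      have := Subgroup.index_ne_zero_of_finite (H := L)
      have h2 : L.index ≠ 1 := fun h => hLt (Subgroup.index_eq_one.mp h)
      omega
    have h3 : 0 < Nat.card L := Nat.card_pos
    nlinarith
  have hsolvL : Group.IsSolvable ↥(elemGen p L) := by
    have hle : elemGen p L ≤ (elemGen p G).comap L.subtype := (Subgroup.closure_le _).mpr
      fun x ⟨k, hk⟩ => Subgroup.subset_closure ⟨k, by rwa [Subgroup.coe_subtype, Subgroup.orderOf_coe]⟩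
    refine solvable_of_solvable_injective
      (f := ((L.subtype.comp (elemGen p L).subtype).codRestrict (elemGen p G) fun x => hle x.2)) ?_
    intro a b h
    have h1 := congrArg Subtype.val h
    exact Subtype.ext (Subtype.ext h1)
  have hLβ : ∀ b : β, ¬ p ∣ (MulAction.stabilizer L b).index :=
    ih hcard hsolvL (α := α) (β := β) (fun g => hfix (g : G)) fun a h => hα a
      (h.trans (by rw [stabilizer_index_subgroup]; exact relIndex_dvd_index' _ L))
  intro b
  rcases hLi with hLi | hLi
  · intro h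
    have h1 : (MulAction.stabilizer G b).index ∣
        (MulAction.stabilizer L b).index * L.index := by
      rw [stabilizer_index_subgroup, ← Subgroup.inf_relIndex_right, Subgroup.relIndex_mul_index inf_le_right]
      exact Subgroup.index_dvd_of_le inf_le_left
    rcases hp.dvd_mul.mp (h.trans h1) with h2 | h2
    · exact hLβ b h2
    · exact hLi h2
  · -- the orbits of `L` are those of `G`
    let qα : MulAction.orbitRel.Quotient L α → MulAction.orbitRel.Quotient G α :=
      Quotient.map' id fun x y h => by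
        obtain ⟨l, hl⟩ := h
        exact ⟨(l : G), hl⟩
    let qβ : MulAction.orbitRel.Quotient L β → MulAction.orbitRel.Quotient G β :=
      Quotient.map' id fun x y h => by
        obtain ⟨l, hl⟩ := h
        exact ⟨(l : G), hl⟩
    have hbα : Function.Bijective qα := by
      refine ⟨fun x y => ?_, fun x => Quotient.inductionOn' x fun a => ⟨Quotient.mk'' a, rfl⟩⟩
      induction x using Quotient.inductionOn' with | h a => ?_
      induction y using Quotient.inductionOn' with | h a' => ?_
      intro he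
      obtain ⟨g, hg⟩ := Quotient.eq''.mp he
      have hsup : MulAction.stabilizer G a' ⊔ L = ⊤ := by
        refine (Subgroup.index_eq_one.mp ?_)
        refine Nat.eq_one_of_dvd_coprimes (hp.coprime_iff_not_dvd.mpr (hα a')).symm
          (Subgroup.index_dvd_of_le le_sup_left) ?_
        rw [← hLi]
        exact Subgroup.index_dvd_of_le le_sup_right
      obtain ⟨l, hl, s, hs, rfl⟩ := Subgroup.mem_sup_of_normal_left.mp
        ((sup_comm L (MulAction.stabilizer G a')).symm ▸ hsup ▸ Subgroup.mem_top g :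
          g ∈ L ⊔ MulAction.stabilizer G a')
      refine Quotient.sound' ⟨⟨l, hl⟩, ?_⟩
      have hg' : (l * s) • a' = a := hg
      show l • a' = a
      rw [← hg', mul_smul, MulAction.mem_stabilizer_iff.mp hs]
    have hsurj : Function.Surjective qβ :=
      fun x => Quotient.inductionOn' x fun a => ⟨Quotient.mk'' a, rfl⟩
    have hbβ : Function.Bijective qβ := by
      refine (Nat.bijective_iff_surjective_and_card qβ).mpr ⟨hsurj, ?_⟩
      rw [← card_orbits_congr hfix, ← card_orbits_congr (L := L) (fun g => hfix (g : G))]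
      exact Nat.card_eq_of_bijective qα hbα
    have htop : MulAction.stabilizer G b ⊔ L = ⊤ := by
      refine top_unique fun g _ => ?_
      obtain ⟨l, hl⟩ := Quotient.eq''.mp (hbβ.1 (a₁ := Quotient.mk'' (g • b))
        (a₂ := Quotient.mk'' b) (Quotient.sound' ⟨g, rfl⟩))
      have h1 : (l : G)⁻¹ * g ∈ MulAction.stabilizer G b := by
        rw [MulAction.mem_stabilizer_iff, mul_smul, ← hl]
        exact inv_smul_smul _ _
      have h2 := mul_mem (Subgroup.mem_sup_right (S := MulAction.stabilizer G b) l.2)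
        (Subgroup.mem_sup_left (T := L) h1)
      rwa [mul_inv_cancel_left] at h2
    intro h
    apply hLβ b
    have h1 : (MulAction.stabilizer G b).relIndex L * L.index =
        L.relIndex (MulAction.stabilizer G b) * (MulAction.stabilizer G b).index := by
      rw [← Subgroup.inf_relIndex_right, Subgroup.relIndex_mul_index inf_le_right, inf_comm,
        ← Subgroup.inf_relIndex_right L, Subgroup.relIndex_mul_index inf_le_right]
    rw [← Subgroup.relIndex_sup_right (MulAction.stabilizer G b) L, htop,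
      Subgroup.relIndex_top_right, mul_comm _ L.index] at h1
    rw [stabilizer_index_subgroup,
      Nat.eq_of_mul_eq_mul_left (Nat.pos_of_ne_zero L.index_ne_zero_of_finite) h1]
    exact h

variable {G : Type*} [Group G]

/-- A subgroup of index prime to `p` contains a conjugate of every Sylow `p`-subgroup. -/
theorem exists_conj_sylow_mem [Finite G] {p : ℕ} [Fact p.Prime] {H : Subgroup G}
    (hH : ¬ p ∣ H.index) (P : Sylow p G) : ∃ c : G, ∀ u ∈ (P : Subgroup G), c * u * c⁻¹ ∈ H := by
  obtain ⟨Q0⟩ : Nonempty (Sylow p H) := inferInstance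
  have h1 : ¬ p ∣ ((Q0 : Subgroup H).map H.subtype).index := by
    rw [Subgroup.index_map_subtype, (Fact.out : p.Prime).dvd_mul]
    exact not_or.mpr ⟨Q0.not_dvd_index, hH⟩
  let Q : Sylow p G := (Q0.isPGroup'.map H.subtype).toSylow h1
  obtain ⟨c, hc⟩ := MulAction.exists_smul_eq G P Q
  refine ⟨c, fun u hu => ?_⟩
  have h2 : (MulAut.conj c) • u ∈ ((c • P : Sylow p G) : Subgroup G) :=
    Subgroup.smul_mem_pointwise_smul u _ _ hu
  rw [hc] at h2
  exact Subgroup.map_subtype_le _ h2

/-- The exponent inducing complex conjugation. -/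
theorem twisting_neg_one (G : Type*) [Group G] [Finite G] :
    Twisting G (Nat.card G - 1) 1 := by
  have hpos : 0 < Nat.card G := Nat.card_pos
  have hinv : ∀ g : G, g ^ (Nat.card G - 1) = g⁻¹ := fun g => eq_inv_of_mul_eq_one_left (by
    rw [← pow_succ, Nat.sub_add_cancel hpos, pow_card_eq_one'])
  refine ⟨?_, fun g => ?_, fun g _ => hinv g⟩
  · rcases Nat.eq_or_lt_of_le hpos with h | h
    · rw [← h]; exact Nat.coprime_one_right _
    · exact (Nat.coprime_self_sub_left (show 1 ≤ Nat.card G by omega)).mpr (Nat.coprime_one_left _)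
  · rw [pow_one, pow_two, pow_mul, hinv, hinv, inv_inv]

theorem pow_neg_one [Finite G] (g : G) : g ^ (Nat.card G - 1) = g⁻¹ := by
  refine eq_inv_of_mul_eq_one_left ?_
  rw [← pow_succ, Nat.sub_add_cancel Nat.card_pos, pow_card_eq_one']

theorem irr_value_inv [Finite G] (χ : IrrCharacter G) (g : G) :
    (χ : G → ℂ) g⁻¹ = conj ((χ : G → ℂ) g) := by
  obtain ⟨n, ρ, -, e⟩ := χ.2
  rw [← e]
  exact char_value_inv ρ g

theorem im_zero_iff [Finite G] (χ : IrrCharacter G) :
    (∀ g : G, ((χ : G → ℂ) g).im = 0) ↔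
      ∀ g : G, (χ : G → ℂ) (g ^ (Nat.card G - 1)) = (χ : G → ℂ) g := by
  simp only [pow_neg_one, irr_value_inv, Complex.conj_eq_iff_im]

variable [Fintype G] {k e : ℕ} (h : Twisting G k e) (N : Subgroup G) [N.Normal] [Fintype N]

/-- The characters of a normal subgroup fixed by the power map. -/
def FixIrr : Type _ := {θ : IrrCharacter N // powIrr (h.subgroup N).coprime θ = θ}

/-- The classes of a normal subgroup fixed by the power map. -/
def FixClass : Type _ := {C : ConjClasses N // powClass (h.subgroup N).coprime C = C}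

instance : Finite (FixIrr h N) := by
  haveI : Finite (IrrCharacter N) := finite_irrCharacter
  unfold FixIrr; infer_instance

instance : Finite (FixClass h N) := by unfold FixClass; infer_instance

theorem commute_powIrr (g : G) :
    Commute (powIrr (h.subgroup N).coprime) (conjIrr N g) :=
  Equiv.ext fun θ => Subtype.ext (funext fun n => by
    show (θ : N → ℂ) ⟨g * ((n ^ k : N) : G) * g⁻¹, _⟩ = (θ : N → ℂ) (⟨g * (n : G) * g⁻¹, _⟩ ^ k)
    refine congrArg (θ : N → ℂ) (Subtype.ext ?_)
    push_cast
    rw [conj_pow])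

theorem commute_powClass (g : G) :
    Commute (powClass (h.subgroup N).coprime) (conjClass N g) := Equiv.ext fun C => by
  obtain ⟨x, rfl⟩ := ConjClasses.exists_rep C
  show ConjClasses.mk (((MulAut.conjNormal g⁻¹ : MulAut N) x) ^ k) =
    ConjClasses.mk ((MulAut.conjNormal g⁻¹ : MulAut N) (x ^ k))
  rw [map_pow]

noncomputable instance : MulAction G (FixIrr h N) where
  smul g θ := ⟨conjIrr N g⁻¹ θ.1, by
    show (powIrr (h.subgroup N).coprime * conjIrr N g⁻¹) θ.1 = conjIrr N g⁻¹ θ.1
    rw [(commute_powIrr h N g⁻¹).eq, Equiv.Perm.mul_apply, θ.2]⟩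
  one_smul θ := Subtype.ext (Subtype.ext (by
    show CfsgLib.Char.conjBy N (θ.1 : N → ℂ) 1⁻¹ = _
    rw [inv_one, conjBy_one]))
  mul_smul a b θ := Subtype.ext (Subtype.ext (by
    show CfsgLib.Char.conjBy N (θ.1 : N → ℂ) (a * b)⁻¹ =
      CfsgLib.Char.conjBy N (CfsgLib.Char.conjBy N (θ.1 : N → ℂ) b⁻¹) a⁻¹
    rw [mul_inv_rev, conjBy_mul]))

theorem fixIrr_smul_val (g : G) (θ : FixIrr h N) :
    ((g • θ).1 : N → ℂ) = CfsgLib.Char.conjBy N (θ.1 : N → ℂ) g⁻¹ := rfl

noncomputable instance : MulAction G (FixClass h N) where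
  smul g C := ⟨conjClass N g⁻¹ C.1, by
    show (powClass (h.subgroup N).coprime * conjClass N g⁻¹) C.1 = conjClass N g⁻¹ C.1
    rw [(commute_powClass h N g⁻¹).eq, Equiv.Perm.mul_apply, C.2]⟩
  one_smul C := Subtype.ext (by
    obtain ⟨x, hx⟩ := ConjClasses.exists_rep C.1
    show C.1.map (MulAut.conjNormal (1 : G)⁻¹⁻¹ : MulAut N).toMonoidHom = C.1
    rw [← hx]
    exact congrArg ConjClasses.mk (Subtype.ext (by simp)))
  mul_smul a b C := Subtype.ext (by
    obtain ⟨x, hx⟩ := ConjClasses.exists_rep C.1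
    show C.1.map (MulAut.conjNormal (a * b)⁻¹⁻¹ : MulAut N).toMonoidHom =
      (C.1.map (MulAut.conjNormal b⁻¹⁻¹ : MulAut N).toMonoidHom).map
        (MulAut.conjNormal a⁻¹⁻¹ : MulAut N).toMonoidHom
    rw [← hx]
    exact congrArg ConjClasses.mk (Subtype.ext (by simp [mul_assoc])))

/-- The two actions have equally many fixed points. -/
theorem card_fixedBy_eq (hodd : Odd N.index) (g : G) :
    Nat.card (MulAction.fixedBy (FixIrr h N) g) =
      Nat.card (MulAction.fixedBy (FixClass h N) g) := by
  classical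
  haveI : Finite (IrrCharacter N) := finite_irrCharacter
  set hN := h.subgroup N
  set s := powIrr hN.coprime
  set t := powClass hN.coprime
  have h1 := fun a => fixed_split s (conjIrr N g⁻¹) (commute_powIrr h N g⁻¹) hodd
    (powIrr_pow_period hN) (conjIrr_pow_index N g⁻¹) a
  have h2 := fun a => fixed_split t (conjClass N g) (commute_powClass h N g) hodd
    (powClass_pow_period hN) (conjClass_pow_index N g) a
  have hsym : ∀ C : ConjClasses N, conjClass N g C = C ↔ conjClass N g⁻¹ C = C := fun C => by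
    have e : conjClass N g⁻¹ C = (conjClass N g).symm C := by
      show C.map (MulAut.conjNormal g⁻¹⁻¹ : MulAut N).toMonoidHom =
        C.map (MulAut.conjNormal g : MulAut N).toMonoidHom
      rw [inv_inv]
    rw [e, Equiv.symm_apply_eq, eq_comm]
  have hb := brauer_perm (s * conjIrr N g⁻¹).symm (t * conjClass N g) fun χ x x' hx => by
    set ξ := (s * conjIrr N g⁻¹).symm χ
    have e : (s * conjIrr N g⁻¹) ξ = χ := Equiv.apply_symm_apply _ χ
    have hx' : IsConj x' (((MulAut.conjNormal g⁻¹ : MulAut N) x) ^ k) :=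
      ConjClasses.mk_eq_mk_iff_isConj.mp hx
    rw [eq_of_isConj (isClassFunction_irr ξ) hx']
    conv_rhs => rw [← e]
    show (ξ : N → ℂ) _ = (ξ : N → ℂ) ⟨g⁻¹ * ((x ^ k : N) : G) * g⁻¹⁻¹, _⟩
    refine congrArg (ξ : N → ℂ) (Subtype.ext ?_)
    push_cast [MulAut.conjNormal_apply, MulEquiv.coe_toMonoidHom]
    rw [conj_pow]
  have e1 : Nat.card (MulAction.fixedBy (FixIrr h N) g) =
      Nat.card {θ : IrrCharacter N // (s * conjIrr N g⁻¹).symm θ = θ} :=
    Nat.card_congr
      { toFun := fun θ => ⟨θ.1.1, by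
          rw [Equiv.symm_apply_eq, eq_comm, h1]
          exact ⟨θ.1.2, congrArg Subtype.val θ.2⟩⟩
        invFun := fun θ => ⟨⟨θ.1, ((h1 θ.1).mp (Equiv.symm_apply_eq _ |>.mp θ.2).symm).1⟩,
          Subtype.ext ((h1 θ.1).mp (Equiv.symm_apply_eq _ |>.mp θ.2).symm).2⟩
        left_inv := fun θ => rfl
        right_inv := fun θ => rfl }
  have e2 : Nat.card (MulAction.fixedBy (FixClass h N) g) =
      Nat.card {C : ConjClasses N // (t * conjClass N g) C = C} :=
    Nat.card_congr
      { toFun := fun C => ⟨C.1.1, (h2 _).mpr ⟨C.1.2, (hsym _).mpr (congrArg Subtype.val C.2)⟩⟩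
        invFun := fun C => ⟨⟨C.1, ((h2 C.1).mp C.2).1⟩,
          Subtype.ext ((hsym _).mp ((h2 C.1).mp C.2).2)⟩
        left_inv := fun C => rfl
        right_inv := fun C => rfl }
  rw [e1, e2]
  exact hb

omit h [N.Normal] [Fintype N] in
theorem odd_index_elemGen (G : Type*) [Group G] [Finite G] : Odd (elemGen 2 G).index := by
  haveI : Fact (Nat.Prime 2) := ⟨Nat.prime_two⟩
  haveI := elemGen_normal 2 G
  rw [← Nat.not_even_iff_odd, even_iff_two_dvd]
  intro h2
  obtain ⟨y, hy⟩ := exists_prime_orderOf_dvd_card' (G := G ⧸ elemGen 2 G) 2 h2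
  have hy' : y ∈ elemGen 2 (G ⧸ elemGen 2 G) :=
    Subgroup.subset_closure ⟨1, by rw [hy, pow_one]⟩
  rw [← map_elemGen 2 (QuotientGroup.mk' (elemGen 2 G)) (QuotientGroup.mk'_surjective _),
    QuotientGroup.map_mk'_self, Subgroup.mem_bot] at hy'
  rw [hy', orderOf_one] at hy
  exact absurd hy (by norm_num)

omit h [N.Normal] [Fintype N] in
/-- The stabilizer of a real character of a normal subgroup of odd index has index prime to `p`. -/
theorem not_dvd_index_inertia_of_real {p : ℕ} (hreal : RealPrime p G) {M : Subgroup G} [M.Normal]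
    [Fintype M] (hodd : Odd M.index) (θ : IrrCharacter M)
    (hθ : ∀ m : M, (θ : M → ℂ) (m ^ (Nat.card G - 1)) = (θ : M → ℂ) m) :
    ¬ p ∣ (inertia M (θ : M → ℂ)).index := by
  obtain ⟨χ, ⟨hc, hχ⟩, -⟩ := exists_unique_fixed (N := M) (twisting_neg_one G) hodd θ hθ
  exact not_dvd_index_of_constituent hreal ((im_zero_iff χ).mpr hχ) θ.2 hc

omit h [N.Normal] [Fintype N] in
/-- A real element is conjugate into the normalizer of a Sylow `p`-subgroup. -/
theorem exists_conj_mem_normalizer {p : ℕ} [Fact p.Prime]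
    (hsolv : Group.IsSolvable ↥(elemGen p G)) (hreal : RealPrime p G) (P : Sylow p G) (x : G)
    (hx : IsConj x x⁻¹) :
    ∃ y ∈ Subgroup.normalizer ((P : Subgroup G) : Set G), IsConj x y := by
  classical
  haveI := elemGen_normal 2 G
  set K := elemGen 2 G with hKdef
  haveI : Fintype K := Fintype.ofFinite K
  have hodd : Odd K.index := odd_index_elemGen G
  -- `x` is real in `K`
  obtain ⟨g, hg⟩ := isConj_iff.mp hx
  obtain ⟨a, r, hr, hgr⟩ := Nat.exists_eq_pow_mul_and_not_dvd (orderOf_pos g).ne' 2 (by norm_num)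
  have hr0 : r ≠ 0 := by rintro rfl; exact hr (dvd_zero 2)
  have huK : g ^ r ∈ K := Subgroup.subset_closure ⟨a, by
    rw [orderOf_pow' g hr0, hgr, Nat.gcd_eq_right (Dvd.intro_left _ rfl),
      Nat.mul_div_cancel _ (Nat.pos_of_ne_zero hr0)]⟩
  obtain ⟨j, hj⟩ : Odd r := Nat.odd_iff.mpr (Nat.two_dvd_ne_zero.mp hr)
  have hg2 : g * x⁻¹ * g⁻¹ = x := by
    have := congrArg Inv.inv hg
    simpa [mul_assoc] using this
  have key : ∀ i : ℕ, g ^ (2 * i + 1) * x * (g ^ (2 * i + 1))⁻¹ = x⁻¹ := by
    intro i
    induction i with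
    | zero => simpa using hg
    | succ i ihi =>
      rw [show g ^ (2 * (i + 1) + 1) * x * (g ^ (2 * (i + 1) + 1))⁻¹ =
        g * (g * (g ^ (2 * i + 1) * x * (g ^ (2 * i + 1))⁻¹) * g⁻¹) * g⁻¹ by
          rw [show 2 * (i + 1) + 1 = 2 * i + 1 + 1 + 1 by ring, pow_succ',
            pow_succ' g (2 * i + 1)]
          group, ihi, hg2, hg]
  have hu : g ^ r * x * (g ^ r)⁻¹ = x⁻¹ := hj ▸ key j
  have hxK : x ∈ K := by
    have h2 : x ^ 2 ∈ K := by
      have h3 : g ^ r * x * (g ^ r)⁻¹ * x⁻¹ ∈ K := by
        rw [show g ^ r * x * (g ^ r)⁻¹ * x⁻¹ = g ^ r * (x * (g ^ r)⁻¹ * x⁻¹) by group]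
        exact mul_mem huK ((inferInstance : K.Normal).conj_mem _ (inv_mem huK) x)
      rw [hu] at h3
      have h4 := inv_mem h3
      rw [show (x⁻¹ * x⁻¹)⁻¹ = x ^ 2 by group] at h4
      exact h4
    obtain ⟨i, hi⟩ := hodd
    have h5 := K.pow_index_mem x
    rw [hi, pow_succ, pow_mul] at h5
    exact (K.mul_mem_cancel_left (pow_mem h2 i)).mp h5
  set h := twisting_neg_one G
  let δ : FixClass h K := ⟨ConjClasses.mk ⟨x, hxK⟩, by
    rw [powClass_mk, ConjClasses.mk_eq_mk_iff_isConj, isConj_comm, isConj_iff]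
    exact ⟨⟨g ^ r, huK⟩, Subtype.ext (by
      show g ^ r * x * (g ^ r)⁻¹ = x ^ (Nat.card G - 1)
      rw [pow_neg_one, hu])⟩⟩
  have hstab : ∀ θ : FixIrr h K, ¬ p ∣ (MulAction.stabilizer G θ).index := by
    intro θ
    have e : MulAction.stabilizer G θ = inertia K (θ.1 : K → ℂ) := by
      ext y
      rw [MulAction.mem_stabilizer_iff, ← inv_mem_iff (H := inertia K (θ.1 : K → ℂ)), mem_inertia]
      exact ⟨fun e => (fixIrr_smul_val h K y θ).symm.trans
        (congrArg (fun z : FixIrr h K => (z.1 : K → ℂ)) e),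
        fun e => Subtype.ext (Subtype.ext e)⟩
    rw [e]
    exact not_dvd_index_inertia_of_real hreal hodd θ.1 fun m =>
      congrFun (congrArg Subtype.val θ.2) m
  have hδ := transfer_stab p (Nat.card G) le_rfl hsolv (α := FixIrr h K) (β := FixClass h K)
    (card_fixedBy_eq h K hodd) hstab δ
  obtain ⟨c, hc⟩ := exists_conj_sylow_mem hδ P
  set x₁ := c⁻¹ * x * c with hx₁
  have hx₁inv : ∀ u ∈ (P : Subgroup G), ∃ l ∈ K, u * x₁ * u⁻¹ = l * x₁ * l⁻¹ := by
    intro u hu
    have h3 := congrArg (fun z : FixClass h K => z.1) (MulAction.mem_stabilizer_iff.mp (hc u hu))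
    change ConjClasses.mk ((MulAut.conjNormal (c * u * c⁻¹)⁻¹⁻¹ : MulAut K) ⟨x, hxK⟩) =
      ConjClasses.mk ⟨x, hxK⟩ at h3
    obtain ⟨l, hl⟩ := isConj_iff.mp (ConjClasses.mk_eq_mk_iff_isConj.mp h3.symm)
    have h4 : (l : G) * x * (l : G)⁻¹ = c * u * c⁻¹ * x * (c * u * c⁻¹)⁻¹ := by
      simpa [mul_assoc] using congrArg Subtype.val hl
    refine ⟨c⁻¹ * (l : G) * c, by
      simpa using (inferInstance : K.Normal).conj_mem (l : G) l.2 c⁻¹, ?_⟩
    calc u * x₁ * u⁻¹ = c⁻¹ * (c * u * c⁻¹ * x * (c * u * c⁻¹)⁻¹) * c := by rw [hx₁]; group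
      _ = c⁻¹ * ((l : G) * x * (l : G)⁻¹) * c := by rw [h4]
      _ = _ := by rw [hx₁]; group
  obtain ⟨R, hRn, hRK, hR, hRi⟩ := exists_normal_sylow p (Nat.card G) le_rfl hsolv hreal K
    inferInstance le_rfl ⟨0, by simp [hKdef]⟩
  haveI := hRn
  have hRP : R ≤ (P : Subgroup G) := by
    have h1 : R ⊔ (P : Subgroup G) = (P : Subgroup G) :=
      P.is_maximal' (hR.to_sup_of_normal_left P.isPGroup') le_sup_right
    exact h1 ▸ le_sup_left
  set π := QuotientGroup.mk' R with hπdef
  let X := {y : G ⧸ R // ∃ l ∈ K, y = π (l * x₁ * l⁻¹)}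
  have hXcard : ¬ p ∣ Nat.card X := by
    let A : Subgroup (G ⧸ R) := K.map π
    letI : MulAction A (G ⧸ R) :=
      MulAction.compHom (G ⧸ R) ((MulAut.conj : G ⧸ R →* MulAut (G ⧸ R)).comp A.subtype)
    have hA : Nat.card A = R.relIndex K := by
      have h1 := Subgroup.relIndex_map_map π R K
      rw [hπdef, QuotientGroup.ker_mk', sup_idem, sup_eq_left.mpr hRK,
        QuotientGroup.map_mk'_self, Subgroup.relIndex_bot_left] at h1
      exact h1
    have hX : Nat.card X = Nat.card (MulAction.orbit A (π x₁)) := by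
      refine Nat.card_congr (Equiv.subtypeEquivRight fun y => ?_)
      constructor
      · rintro ⟨l, hl, rfl⟩
        exact ⟨⟨π l, Subgroup.mem_map_of_mem π hl⟩, by
          show π l * π x₁ * (π l)⁻¹ = _
          simp [map_mul]⟩
      · rintro ⟨⟨_, l, hl, rfl⟩, rfl⟩
        exact ⟨l, hl, by
          show π l * π x₁ * (π l)⁻¹ = _
          simp [map_mul]⟩
    intro hd
    apply hRi
    rw [← hA]
    refine hd.trans ?_
    rw [hX, ← Nat.card_congr (MulAction.orbitEquivQuotientStabilizer A (π x₁)).symm]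
    exact Subgroup.index_dvd_card _
  letI : MulAction (P : Subgroup G) X :=
    { smul := fun u y => ⟨π (u : G) * y.1 * (π (u : G))⁻¹, by
        obtain ⟨l, hl, hy⟩ := y.2
        obtain ⟨l', hl', e⟩ := hx₁inv (u : G) u.2
        refine ⟨(u : G) * l * (u : G)⁻¹ * l', mul_mem
          ((inferInstance : K.Normal).conj_mem l hl _) hl', ?_⟩
        rw [hy, ← map_inv, ← map_mul, ← map_mul]
        congr 1
        calc (u : G) * (l * x₁ * l⁻¹) * (u : G)⁻¹
            = ((u : G) * l * (u : G)⁻¹) * ((u : G) * x₁ * (u : G)⁻¹) *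
              ((u : G) * l * (u : G)⁻¹)⁻¹ := by group
          _ = _ := by rw [e]; group⟩
      one_smul := fun y => Subtype.ext (by
        show π ((1 : (P : Subgroup G)) : G) * y.1 * (π ((1 : (P : Subgroup G)) : G))⁻¹ = y.1
        simp)
      mul_smul := fun u v y => Subtype.ext (by
        show π ((u * v : (P : Subgroup G)) : G) * y.1 * (π ((u * v : (P : Subgroup G)) : G))⁻¹ =
          π (u : G) * (π (v : G) * y.1 * (π (v : G))⁻¹) * (π (u : G))⁻¹
        simp [mul_assoc]) }
  obtain ⟨⟨y', l, hl, rfl⟩, hy'⟩ :=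
    P.isPGroup'.nonempty_fixed_point_of_prime_not_dvd_card X hXcard
  set y := l * x₁ * l⁻¹ with hy
  have hyP : ∀ u ∈ (P : Subgroup G), y⁻¹ * u * y ∈ (P : Subgroup G) := by
    intro u hu
    have h1 : π u * π y * (π u)⁻¹ = π y := congrArg Subtype.val (hy' ⟨u, hu⟩)
    rw [← map_inv, ← map_mul, ← map_mul] at h1
    have h2 : y⁻¹ * (u * y * u⁻¹) ∈ R := QuotientGroup.eq.mp h1.symm
    have h3 := mul_mem (hRP h2) hu
    rwa [show y⁻¹ * (u * y * u⁻¹) * u = y⁻¹ * u * y by group] at h3
  refine ⟨y, ?_, isConj_iff.mpr ⟨l * c⁻¹, by rw [hy, hx₁]; group⟩⟩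
  have hbij : Function.Bijective
      fun u : (P : Subgroup G) => (⟨y⁻¹ * (u : G) * y, hyP u u.2⟩ : (P : Subgroup G)) :=
    Finite.injective_iff_bijective.mp fun a b h => by simpa using congrArg Subtype.val h
  refine Subgroup.mem_normalizer_iff.mpr fun u => ⟨fun hu => ?_, fun hu => ?_⟩
  · obtain ⟨w, hw⟩ := hbij.2 ⟨u, hu⟩
    have e : y⁻¹ * (w : G) * y = u := congrArg Subtype.val hw
    rw [← e, show y * (y⁻¹ * (w : G) * y) * y⁻¹ = w by group]
    exact w.2
  · have := hyP _ hu
    rwa [show y⁻¹ * (y * u * y⁻¹) * y = u by group] at this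

end CfsgLib.RealDegree
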